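import Mathlib
import Cfsg.Agent.Helper5.SLGen

/-!
# Calculus of elementary transvections inside a subgroup of `SL_ι(F)` (helper13)

`TvAt H i j t` says that the elementary matrix `1 + t E_{ij}` lies in the subgroup `H`;
`TvFull H i j` says this for every `t`.  The Chevalley commutator formula transports these
facts around (`TvAt.comp`), and a subgroup which is full at every off-diagonal position is
everything (`sl_top_of_tvFull`).
-/

set_option autoImplicit false
set_option linter.unusedSimpArgs false
set_option linter.unusedSectionVars false
set_option linter.unusedVariables false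
set_option linter.unreachableTactic false
set_option linter.unusedTactic false
set_option linter.unnecessarySeqFocus false

namespace Cfsg.Agent.Helper13

open Matrix
open scoped commutatorElement

section tvcalc
variable {ι : Type*} [DecidableEq ι] [Fintype ι] {F : Type*} [Field F]

/-- entries of `T_{ij}(t) * A`. -/
theorem tv_mul_entry (i j : ι) (t : F) (A : Matrix ι ι F) (a b : ι) :
    (Matrix.transvection i j t * A) a b = A a b + if a = i then t * A j b else 0 := by
  by_cases h : a = i
  · subst h
    rw [Matrix.transvection_mul_apply_same, if_pos rfl]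
  · rw [Matrix.transvection_mul_apply_of_ne _ _ _ _ h, if_neg h, add_zero]

/-- entries of `A * T_{ij}(t)`. -/
theorem mul_tv_entry (i j : ι) (t : F) (A : Matrix ι ι F) (a b : ι) :
    (A * Matrix.transvection i j t) a b = A a b + if b = j then t * A a i else 0 := by
  by_cases h : b = j
  · subst h
    rw [Matrix.mul_transvection_apply_same, if_pos rfl]
  · rw [Matrix.mul_transvection_apply_of_ne _ _ _ _ h, if_neg h, add_zero]

/-- entries of `T_{ij}(t)`. -/
theorem tv_entry (i j : ι) (t : F) (a b : ι) :
    Matrix.transvection i j t a b
      = (if a = b then 1 else 0) + if a = i ∧ b = j then t else 0 := by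
  unfold Matrix.transvection
  rw [Matrix.add_apply, Matrix.one_apply, Matrix.single_apply]
  congr 1
  by_cases h : i = a ∧ j = b
  · rw [if_pos h, if_pos ⟨h.1.symm, h.2.symm⟩]
  · rw [if_neg h, if_neg (fun h' => h ⟨h'.1.symm, h'.2.symm⟩)]

/-- the braid relation between two opposite elementary matrices with `s μ = -1`. -/
theorem tv_braid_matrix {i j : ι} (hij : i ≠ j) (s μ : F) (h : s * μ = -1) :
    Matrix.transvection i j s * Matrix.transvection j i μ * Matrix.transvection i j s =
      Matrix.transvection j i μ * Matrix.transvection i j s * Matrix.transvection j i μ := by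
  have hji : j ≠ i := hij.symm
  ext a b
  simp only [tv_mul_entry, mul_tv_entry, tv_entry]
  by_cases hai : a = i
  · subst hai
    by_cases hbi : b = a
    · subst hbi
      simp only [hij, hji, if_true, if_false, and_true, and_false, true_and, false_and, and_self,
        eq_self_iff_true] <;>
        (first | ring1 | linear_combination s * h | linear_combination (-s) * h | linear_combination μ * h | linear_combination (-μ) * h | linear_combination h | linear_combination (-1 : F) * h)
    · by_cases hbj : b = j
      · subst hbj
        simp only [hij, hji, hbi, Ne.symm hbi, if_true, if_false, and_true, and_false, true_and,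
          false_and, and_self, eq_self_iff_true] <;>
          (first | ring1 | linear_combination s * h | linear_combination (-s) * h | linear_combination μ * h | linear_combination (-μ) * h | linear_combination h | linear_combination (-1 : F) * h)
      · simp only [hij, hji, hbi, hbj, Ne.symm hbi, Ne.symm hbj, if_true, if_false, and_true,
          and_false, true_and, false_and, and_self, eq_self_iff_true] <;>
          (first | ring1 | linear_combination s * h | linear_combination (-s) * h | linear_combination μ * h | linear_combination (-μ) * h | linear_combination h | linear_combination (-1 : F) * h)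
  · by_cases haj : a = j
    · subst haj
      by_cases hbi : b = i
      · subst hbi
        simp only [hij, hji, hai, Ne.symm hai, if_true, if_false, and_true, and_false, true_and,
          false_and, and_self, eq_self_iff_true] <;>
          (first | ring1 | linear_combination s * h | linear_combination (-s) * h | linear_combination μ * h | linear_combination (-μ) * h | linear_combination h | linear_combination (-1 : F) * h)
      · by_cases hbj : b = a
        · subst hbj
          simp only [hij, hji, hai, Ne.symm hai, if_true, if_false, and_true, and_false, true_and,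
            false_and, and_self, eq_self_iff_true] <;>
            (first | ring1 | linear_combination s * h | linear_combination (-s) * h | linear_combination μ * h | linear_combination (-μ) * h | linear_combination h | linear_combination (-1 : F) * h)
        · simp only [hij, hji, hai, hbi, hbj, Ne.symm hbi, Ne.symm hbj, Ne.symm hai, if_true,
            if_false, and_true, and_false, true_and, false_and, and_self, eq_self_iff_true] <;>
            (first | ring1 | linear_combination s * h | linear_combination (-s) * h | linear_combination μ * h | linear_combination (-μ) * h | linear_combination h | linear_combination (-1 : F) * h)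
    · by_cases hbi : b = i
      · subst hbi
        simp only [hij, hji, hai, haj, Ne.symm hai, Ne.symm haj, if_true, if_false, and_true,
          and_false, true_and, false_and, and_self, eq_self_iff_true] <;>
          (first | ring1 | linear_combination s * h | linear_combination (-s) * h | linear_combination μ * h | linear_combination (-μ) * h | linear_combination h | linear_combination (-1 : F) * h)
      · by_cases hbj : b = j
        · subst hbj
          simp only [hij, hji, hai, haj, hbi, Ne.symm hai, Ne.symm haj, Ne.symm hbi, if_true,
            if_false, and_true, and_false, true_and, false_and, and_self, eq_self_iff_true] <;>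
            (first | ring1 | linear_combination s * h | linear_combination (-s) * h | linear_combination μ * h | linear_combination (-μ) * h | linear_combination h | linear_combination (-1 : F) * h)
        · simp only [hij, hji, hai, haj, hbi, hbj, if_true, if_false, and_true, and_false,
            true_and, false_and, and_self, eq_self_iff_true] <;>
            (first | ring1 | linear_combination s * h | linear_combination (-s) * h | linear_combination μ * h | linear_combination (-μ) * h | linear_combination h | linear_combination (-1 : F) * h)

/-- elementary matrices in the same row commute. -/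
theorem tv_comm_row {i j k : ι} (hij : i ≠ j) (hik : i ≠ k) (a b : F) :
    Matrix.transvection i j a * Matrix.transvection i k b =
      Matrix.transvection i k b * Matrix.transvection i j a := by
  unfold Matrix.transvection
  simp only [mul_add, add_mul, mul_one, one_mul,
    Matrix.single_mul_single_of_ne _ _ _ _ hij.symm, Matrix.single_mul_single_of_ne _ _ _ _ hik.symm]
  abel

/-- the elementary matrix `1 + t E_{ij}` belongs to `H`. -/
def TvAt (H : Subgroup (Matrix.SpecialLinearGroup ι F)) (i j : ι) (t : F) : Prop :=
  ∀ g : Matrix.SpecialLinearGroup ι F, g.1 = Matrix.transvection i j t → g ∈ H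

/-- all elementary matrices `1 + t E_{ij}` belong to `H`. -/
def TvFull (H : Subgroup (Matrix.SpecialLinearGroup ι F)) (i j : ι) : Prop :=
  ∀ t : F, TvAt H i j t

variable {H : Subgroup (Matrix.SpecialLinearGroup ι F)}

theorem TvAt.mem {i j : ι} {t : F} (h : TvAt H i j t) (hij : i ≠ j) :
    Matrix.SpecialLinearGroup.transvection hij t ∈ H := h _ rfl

theorem tvAt_of_mem {i j : ι} {t : F} (g : Matrix.SpecialLinearGroup ι F)
    (hg : g.1 = Matrix.transvection i j t) (h : g ∈ H) : TvAt H i j t := by
  intro g' hg'
  have : g' = g := Subtype.ext (hg'.trans hg.symm)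
  rw [this]
  exact h

theorem tvAt_of_mem' {i j : ι} (hij : i ≠ j) {t : F}
    (h : Matrix.SpecialLinearGroup.transvection hij t ∈ H) : TvAt H i j t :=
  tvAt_of_mem _ rfl h

theorem TvAt.zero (H : Subgroup (Matrix.SpecialLinearGroup ι F)) (i j : ι) :
    TvAt H i j (0 : F) := by
  intro g hg
  have : g = 1 := Subtype.ext (by rw [hg, Matrix.transvection_zero]; rfl)
  rw [this]
  exact one_mem H

theorem TvAt.add {i j : ι} {a b : F} (hij : i ≠ j) (ha : TvAt H i j a) (hb : TvAt H i j b) :
    TvAt H i j (a + b) := by
  apply tvAt_of_mem' hij
  rw [Matrix.SpecialLinearGroup.transvection_add]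
  exact mul_mem (ha.mem hij) (hb.mem hij)

theorem TvAt.neg {i j : ι} {a : F} (hij : i ≠ j) (ha : TvAt H i j a) : TvAt H i j (-a) := by
  apply tvAt_of_mem' hij
  rw [← Matrix.SpecialLinearGroup.transvection_inv]
  exact inv_mem (ha.mem hij)

theorem TvAt.comp {i k j : ι} {a b : F} (hik : i ≠ k) (hkj : k ≠ j) (hij : i ≠ j)
    (ha : TvAt H i k a) (hb : TvAt H k j b) : TvAt H i j (a * b) := by
  apply tvAt_of_mem' hij
  rw [← Cfsg.Agent.Helper5.transvection_commutator hik hkj hij, commutatorElement_def]
  have h1 := ha.mem hik
  have h2 := hb.mem hkj
  exact mul_mem (mul_mem (mul_mem h1 h2) (inv_mem h1)) (inv_mem h2)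

theorem TvFull.comp_left {i k j : ι} {b : F} (hik : i ≠ k) (hkj : k ≠ j) (hij : i ≠ j)
    (hb0 : b ≠ 0) (ha : TvFull H i k) (hb : TvAt H k j b) : TvFull H i j := by
  intro t
  have := TvAt.comp hik hkj hij (ha (t * b⁻¹)) hb
  rwa [inv_mul_cancel_right₀ hb0] at this

theorem TvFull.comp_right {i k j : ι} {a : F} (hik : i ≠ k) (hkj : k ≠ j) (hij : i ≠ j)
    (ha0 : a ≠ 0) (ha : TvAt H i k a) (hb : TvFull H k j) : TvFull H i j := by
  intro t
  have := TvAt.comp hik hkj hij ha (hb (a⁻¹ * t))
  rwa [mul_inv_cancel_left₀ ha0] at this

theorem TvFull.comp {i k j : ι} (hik : i ≠ k) (hkj : k ≠ j) (hij : i ≠ j)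
    (ha : TvFull H i k) (hb : TvFull H k j) : TvFull H i j :=
  TvFull.comp_left hik hkj hij one_ne_zero ha (hb 1)

/-- conjugation from a matrix identity without inverses. -/
theorem sl_conj_eq_of (A M M' : Matrix.SpecialLinearGroup ι F) (h : A.1 * M.1 = M'.1 * A.1) :
    A * M * A⁻¹ = M' := by
  have : A * M = M' * A := Subtype.ext h
  rw [this, mul_inv_cancel_right]

/-- if `A T_{ij}(t) A⁻¹ = T_{ij}(t) T_{kl}(r)` with `A` and `T_{ij}(t)` in `H`, then
`T_{kl}(r)` is in `H`. -/
theorem TvAt.conj_split {i j k l : ι} (hij : i ≠ j) (hkl : k ≠ l) {t r : F}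
    (A : Matrix.SpecialLinearGroup ι F) (hA : A ∈ H)
    (hm : A.1 * Matrix.transvection i j t
      = Matrix.transvection i j t * (Matrix.transvection k l r * A.1))
    (h : TvAt H i j t) : TvAt H k l r := by
  apply tvAt_of_mem' hkl
  have e : A * Matrix.SpecialLinearGroup.transvection hij t * A⁻¹
      = Matrix.SpecialLinearGroup.transvection hij t
        * Matrix.SpecialLinearGroup.transvection hkl r :=
    sl_conj_eq_of _ _ _ (hm.trans (mul_assoc _ _ _).symm)
  have e2 : Matrix.SpecialLinearGroup.transvection hkl r
      = (Matrix.SpecialLinearGroup.transvection hij t)⁻¹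
        * (A * Matrix.SpecialLinearGroup.transvection hij t * A⁻¹) := by
    rw [e, inv_mul_cancel_left]
  rw [e2]
  exact mul_mem (inv_mem (h.mem hij)) (mul_mem (mul_mem hA (h.mem hij)) (inv_mem hA))

/-- if `A⁻¹ T_{ij}(t) A = T_{ij}(t) T_{kl}(r)` with `A` and `T_{ij}(t)` in `H`, then
`T_{kl}(r)` is in `H`. -/
theorem TvAt.conj_split' {i j k l : ι} (hij : i ≠ j) (hkl : k ≠ l) {t r : F}
    (A : Matrix.SpecialLinearGroup ι F) (hA : A ∈ H)
    (hm : Matrix.transvection i j t * A.1
      = A.1 * Matrix.transvection i j t * Matrix.transvection k l r)
    (h : TvAt H i j t) : TvAt H k l r := by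
  apply tvAt_of_mem' hkl
  have e : Matrix.SpecialLinearGroup.transvection hij t * A
      = A * (Matrix.SpecialLinearGroup.transvection hij t
        * Matrix.SpecialLinearGroup.transvection hkl r) :=
    Subtype.ext (hm.trans (mul_assoc _ _ _))
  have e2 : Matrix.SpecialLinearGroup.transvection hkl r
      = (Matrix.SpecialLinearGroup.transvection hij t)⁻¹
        * (A⁻¹ * (Matrix.SpecialLinearGroup.transvection hij t * A)) := by
    rw [e, inv_mul_cancel_left, inv_mul_cancel_left]
  rw [e2]
  exact mul_mem (inv_mem (h.mem hij)) (mul_mem (inv_mem hA) (mul_mem (h.mem hij) hA))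

/-- the braid relation gives the opposite elementary matrix. -/
theorem tv_braid_mem {i j : ι} (hij : i ≠ j) (s μ : F) (h : s * μ = -1)
    (hx : TvAt H i j s)
    (hc : (Matrix.SpecialLinearGroup.transvection hij.symm μ)⁻¹
      * Matrix.SpecialLinearGroup.transvection hij s
      * Matrix.SpecialLinearGroup.transvection hij.symm μ ∈ H) :
    TvAt H j i μ := by
  apply tvAt_of_mem' hij.symm
  have hb : Matrix.SpecialLinearGroup.transvection hij s
      * Matrix.SpecialLinearGroup.transvection hij.symm μ
      * Matrix.SpecialLinearGroup.transvection hij s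
      = Matrix.SpecialLinearGroup.transvection hij.symm μ
      * Matrix.SpecialLinearGroup.transvection hij s
      * Matrix.SpecialLinearGroup.transvection hij.symm μ :=
    Subtype.ext (tv_braid_matrix hij s μ h)
  have e : Matrix.SpecialLinearGroup.transvection hij.symm μ
      = (Matrix.SpecialLinearGroup.transvection hij s)⁻¹
        * ((Matrix.SpecialLinearGroup.transvection hij.symm μ)⁻¹
          * Matrix.SpecialLinearGroup.transvection hij s
          * Matrix.SpecialLinearGroup.transvection hij.symm μ)
        * Matrix.SpecialLinearGroup.transvection hij s := by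
    have : (Matrix.SpecialLinearGroup.transvection hij.symm μ)⁻¹
          * Matrix.SpecialLinearGroup.transvection hij s
          * Matrix.SpecialLinearGroup.transvection hij.symm μ
        * Matrix.SpecialLinearGroup.transvection hij s
        = (Matrix.SpecialLinearGroup.transvection hij.symm μ)⁻¹
          * (Matrix.SpecialLinearGroup.transvection hij s
          * Matrix.SpecialLinearGroup.transvection hij.symm μ
          * Matrix.SpecialLinearGroup.transvection hij s) := by
      simp only [mul_assoc]
    rw [mul_assoc, this, hb]
    simp only [mul_assoc, inv_mul_cancel_left]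
  rw [e]
  exact mul_mem (mul_mem (inv_mem (hx.mem hij)) hc) (hx.mem hij)

/-- a subgroup containing all elementary matrices is everything. -/
theorem sl_top_of_tvFull [Nontrivial ι] (H : Subgroup (Matrix.SpecialLinearGroup ι F))
    (h : ∀ i j : ι, i ≠ j → TvFull H i j) : H = ⊤ := by
  refine le_antisymm le_top (fun A _ => ?_)
  exact Cfsg.Agent.Helper5.SL_transvection_induction (fun M => M ∈ H)
    (fun i j hij a => (h i j hij a).mem hij) (fun _ _ => mul_mem) A

end tvcalc

section finfield
variable {F : Type*} [Field F] [Fintype F]

/-- every element of a finite field is a sum of two squares. -/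
theorem ff_sum_two_sq (t : F) : ∃ a b : F, t = a ^ 2 + b ^ 2 := by
  classical
  by_cases hodd : Fintype.card F % 2 = 1
  · obtain ⟨a, b, hab⟩ := FiniteField.exists_root_sum_quadratic (R := F)
      (f := Polynomial.X ^ 2) (g := Polynomial.X ^ 2 - Polynomial.C t)
      (Polynomial.degree_X_pow 2) (Polynomial.degree_X_pow_sub_C (by norm_num) t) hodd
    refine ⟨a, b, ?_⟩
    simp only [Polynomial.eval_pow, Polynomial.eval_X, Polynomial.eval_sub, Polynomial.eval_C]
      at hab
    linear_combination -hab
  · have hchar : ringChar F = 2 := (FiniteField.even_card_iff_char_two).2 (by omega)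
    obtain ⟨a, ha⟩ := FiniteField.isSquare_of_char_two (F := F) hchar t
    exact ⟨a, 0, by rw [ha]; ring⟩

/-- an additively closed predicate on a finite field which holds at a non-zero element and is
stable under multiplication by the square of a generator holds everywhere. -/
theorem ff_full_of_sq_closed (P : F → Prop) (r : F)
    (hgen : ∀ a : F, a ≠ 0 → ∃ j : ℕ, a = r ^ j)
    (hadd : ∀ a b, P a → P b → P (a + b)) (h0 : P 0) (s0 : F) (hs0 : s0 ≠ 0) (hP : P s0)
    (hcl : ∀ a, P a → P (r ^ 2 * a)) : ∀ t, P t := by
  have h1 : ∀ j : ℕ, ∀ a, P a → P ((r ^ j) ^ 2 * a) := by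
    intro j
    induction j with
    | zero => intro a ha; simpa using ha
    | succ j ih =>
      intro a ha
      have := hcl _ (ih a ha)
      have e : r ^ 2 * ((r ^ j) ^ 2 * a) = (r ^ (j + 1)) ^ 2 * a := by ring
      rwa [e] at this
  have h2 : ∀ c a : F, P a → P (c ^ 2 * a) := by
    intro c a ha
    by_cases hc : c = 0
    · subst hc
      simpa using h0
    · obtain ⟨j, rfl⟩ := hgen c hc
      exact h1 j a ha
  intro t
  obtain ⟨a, b, hab⟩ := ff_sum_two_sq (t * s0⁻¹)
  have e : t = a ^ 2 * s0 + b ^ 2 * s0 := by
    rw [← add_mul, ← hab, inv_mul_cancel_right₀ hs0]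
  rw [e]
  exact hadd _ _ (h2 a s0 hP) (h2 b s0 hP)

/-- a generator of the multiplicative group of a finite field, as natural powers. -/
theorem ff_exists_gen : ∃ r : F, r ≠ 0 ∧ ∀ a : F, a ≠ 0 → ∃ j : ℕ, a = r ^ j := by
  classical
  obtain ⟨k, hk⟩ := IsCyclic.exists_generator (α := Fˣ)
  refine ⟨(k : F), k.ne_zero, fun a ha => ?_⟩
  have h1 : Units.mk0 a ha ∈ Subgroup.zpowers k := hk _
  rw [← mem_powers_iff_mem_zpowers] at h1
  obtain ⟨j, hj⟩ := h1
  refine ⟨j, ?_⟩
  have := congrArg (fun u : Fˣ => (u : F)) hj
  simpa using this.symm

end finfield

end Cfsg.Agent.Helper13
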