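import Mathlib
import Cfsg.Agent.Helper13.TvCalc

/-!
# Dyad calculus in `SL` (helper13)

Rank one perturbations `1 + u φᵀ` of the identity (`Matrix.vecMulVec u φ`), membership
predicates `DyIn H u φ` for them in a subgroup of `SL`, and the abstract identities behind the
generation of `SL_n(F)` by two regular unipotent elements (`RU2`, `ru2_seed`, `ru2_core`).
-/

set_option autoImplicit false
set_option linter.unusedSimpArgs false
set_option linter.unusedSectionVars false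
set_option linter.unusedVariables false
set_option linter.unreachableTactic false
set_option linter.unusedTactic false
set_option linter.unnecessarySeqFocus false

namespace Cfsg.Agent.Helper13

open Matrix

section dyad
variable {ι : Type*} [Fintype ι] [DecidableEq ι] {F : Type*} [Field F]

/-- the matrix of `P * Q⁻¹`, from an identity without inverses. -/
theorem sl_div_val (P Q : Matrix.SpecialLinearGroup ι F) (X : Matrix ι ι F)
    (h : X * Q.1 = P.1) : (P * Q⁻¹).1 = X := by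
  rw [Matrix.SpecialLinearGroup.coe_mul, ← h, mul_assoc, ← Matrix.SpecialLinearGroup.coe_mul,
    mul_inv_cancel, Matrix.SpecialLinearGroup.coe_one, mul_one]

/-- the matrix of `g⁻¹`, from an identity without inverses. -/
theorem sl_inv_val_of_mul (g : Matrix.SpecialLinearGroup ι F) (Y : Matrix ι ι F)
    (h : g.1 * Y = 1) : (g⁻¹).1 = Y := by
  calc (g⁻¹).1 = (g⁻¹).1 * (g.1 * Y) := by rw [h, mul_one]
    _ = (g⁻¹ * g).1 * Y := by rw [Matrix.SpecialLinearGroup.coe_mul, mul_assoc]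
    _ = Y := by rw [inv_mul_cancel, Matrix.SpecialLinearGroup.coe_one, one_mul]

/-- the matrix of `a⁻¹ * g * a`, from an identity without inverses. -/
theorem sl_conj_val (a g : Matrix.SpecialLinearGroup ι F) (X Y : Matrix ι ι F)
    (hg : g.1 = X) (h : X * a.1 = a.1 * Y) : (a⁻¹ * g * a).1 = Y := by
  rw [Matrix.SpecialLinearGroup.coe_mul, Matrix.SpecialLinearGroup.coe_mul, hg, mul_assoc, h,
    ← mul_assoc, ← Matrix.SpecialLinearGroup.coe_mul, inv_mul_cancel,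
    Matrix.SpecialLinearGroup.coe_one, one_mul]

/-- the dyadic transvection `1 + u φᵀ` is (the matrix of) an element of `H`. -/
def DyIn (H : Subgroup (Matrix.SpecialLinearGroup ι F)) (u φ : ι → F) : Prop :=
  ∃ g : Matrix.SpecialLinearGroup ι F, g ∈ H ∧ g.1 = 1 + vecMulVec u φ

variable {H : Subgroup (Matrix.SpecialLinearGroup ι F)}

theorem DyIn.zero_left (H : Subgroup (Matrix.SpecialLinearGroup ι F)) (φ : ι → F) :
    DyIn H 0 φ :=
  ⟨1, one_mem H, by rw [zero_vecMulVec, add_zero, Matrix.SpecialLinearGroup.coe_one]⟩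

theorem DyIn.zero_right (H : Subgroup (Matrix.SpecialLinearGroup ι F)) (u : ι → F) :
    DyIn H u 0 :=
  ⟨1, one_mem H, by rw [vecMulVec_zero, add_zero, Matrix.SpecialLinearGroup.coe_one]⟩

theorem DyIn.add_left {u u' φ : ι → F} (h' : φ ⬝ᵥ u' = 0) (h1 : DyIn H u φ)
    (h2 : DyIn H u' φ) : DyIn H (u + u') φ := by
  obtain ⟨g1, hg1, e1⟩ := h1
  obtain ⟨g2, hg2, e2⟩ := h2
  refine ⟨g1 * g2, mul_mem hg1 hg2, ?_⟩
  rw [Matrix.SpecialLinearGroup.coe_mul, e1, e2]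
  simp only [mul_add, add_mul, mul_one, one_mul, vecMulVec_mul_vecMulVec, h', zero_smul,
    vecMulVec_zero, add_vecMulVec, add_zero]
  abel

theorem DyIn.neg_left {u φ : ι → F} (h : φ ⬝ᵥ u = 0) (h1 : DyIn H u φ) : DyIn H (-u) φ := by
  obtain ⟨g, hg, e⟩ := h1
  refine ⟨g⁻¹, inv_mem hg, sl_inv_val_of_mul g _ ?_⟩
  rw [e]
  simp only [mul_add, add_mul, mul_one, one_mul, neg_vecMulVec, mul_neg,
    vecMulVec_mul_vecMulVec, h, zero_smul, vecMulVec_zero, add_zero, neg_zero]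
  abel

theorem DyIn.add_right {u φ φ' : ι → F} (h : φ ⬝ᵥ u = 0) (h1 : DyIn H u φ)
    (h2 : DyIn H u φ') : DyIn H u (φ + φ') := by
  obtain ⟨g1, hg1, e1⟩ := h1
  obtain ⟨g2, hg2, e2⟩ := h2
  refine ⟨g1 * g2, mul_mem hg1 hg2, ?_⟩
  rw [Matrix.SpecialLinearGroup.coe_mul, e1, e2]
  simp only [mul_add, add_mul, mul_one, one_mul, vecMulVec_mul_vecMulVec, h, zero_smul,
    vecMulVec_zero, vecMulVec_add, add_zero]
  abel

theorem DyIn.neg_right {u φ : ι → F} (h : φ ⬝ᵥ u = 0) (h1 : DyIn H u φ) : DyIn H u (-φ) := by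
  obtain ⟨g, hg, e⟩ := h1
  refine ⟨g⁻¹, inv_mem hg, sl_inv_val_of_mul g _ ?_⟩
  rw [e]
  simp only [mul_add, add_mul, mul_one, one_mul, vecMulVec_neg, mul_neg,
    vecMulVec_mul_vecMulVec, h, zero_smul, vecMulVec_zero, add_zero, neg_zero]
  abel

/-- from `1 + (u + u') φᵀ` and `1 + u φᵀ` to `1 + u' φᵀ`. -/
theorem DyIn.cancel_left {u u' φ : ι → F} (h : φ ⬝ᵥ u = 0) (h' : φ ⬝ᵥ u' = 0)
    (h1 : DyIn H (u + u') φ) (h2 : DyIn H u φ) : DyIn H u' φ := by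
  have h3 := DyIn.add_left (by rw [dotProduct_add, h, h', add_zero]) (DyIn.neg_left h h2) h1
  rwa [neg_add_cancel_left] at h3

/-- from `1 + u (φ + φ')ᵀ` and `1 + u φᵀ` to `1 + u φ'ᵀ`. -/
theorem DyIn.cancel_right {u φ φ' : ι → F} (h : φ ⬝ᵥ u = 0) (h' : φ' ⬝ᵥ u = 0)
    (h1 : DyIn H u (φ + φ')) (h2 : DyIn H u φ) : DyIn H u φ' := by
  have h3 := DyIn.add_right (by rw [neg_dotProduct, h, neg_zero]) (DyIn.neg_right h h2) h1
  rwa [neg_add_cancel_left] at h3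

/-- conjugating a dyadic transvection by an element of `H`. -/
theorem DyIn.conj {u φ u' φ' : ι → F} (A : Matrix.SpecialLinearGroup ι F) (hA : A ∈ H)
    (hm : A.1 * (1 + vecMulVec u φ) = (1 + vecMulVec u' φ') * A.1) (h : DyIn H u φ) :
    DyIn H u' φ' := by
  obtain ⟨g, hg, e⟩ := h
  refine ⟨A * g * A⁻¹, mul_mem (mul_mem hA hg) (inv_mem hA), ?_⟩
  exact sl_div_val (A * g) A _ (by rw [Matrix.SpecialLinearGroup.coe_mul, e, hm])

/-- conjugating a dyadic transvection by the inverse of an element of `H`. -/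
theorem DyIn.conj_rev {u φ u' φ' : ι → F} (A : Matrix.SpecialLinearGroup ι F) (hA : A ∈ H)
    (hm : A.1 * (1 + vecMulVec u φ) = (1 + vecMulVec u' φ') * A.1) (h : DyIn H u' φ') :
    DyIn H u φ := by
  obtain ⟨g, hg, e⟩ := h
  refine ⟨A⁻¹ * g * A, mul_mem (mul_mem (inv_mem hA) hg) hA, ?_⟩
  exact sl_conj_val A g _ _ e hm.symm

/-- elementary matrices as dyadic transvections. -/
theorem dy_single (i j : ι) (t : F) :
    (1 : Matrix ι ι F) + vecMulVec (Pi.single i t) (Pi.single j 1) = Matrix.transvection i j t := by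
  ext a b
  rw [Matrix.transvection, Matrix.add_apply, Matrix.add_apply, vecMulVec_apply,
    Matrix.single_apply, Pi.single_apply, Pi.single_apply]
  by_cases h1 : a = i <;> by_cases h2 : b = j
  · subst h1; subst h2; simp
  · subst h1; simp [h2, Ne.symm h2]
  · subst h2; simp [h1, Ne.symm h1]
  · simp [h1, h2, Ne.symm h1]

theorem DyIn.tvAt {i j : ι} {t : F} (h : DyIn H (Pi.single i t) (Pi.single j 1)) :
    TvAt H i j t := by
  obtain ⟨g, hg, e⟩ := h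
  exact tvAt_of_mem g (e.trans (dy_single i j t)) hg

theorem TvAt.dyIn {i j : ι} {t : F} (hij : i ≠ j) (h : TvAt H i j t) :
    DyIn H (Pi.single i t) (Pi.single j 1) :=
  ⟨Matrix.SpecialLinearGroup.transvection hij t, h.mem hij, (dy_single i j t).symm⟩

/-- the braid relation for two dyadic transvections. -/
theorem dyad_braid {u φ v χ : ι → F} (h1 : φ ⬝ᵥ u = 0) (h2 : χ ⬝ᵥ v = 0)
    (h3 : φ ⬝ᵥ v = -1) (h4 : χ ⬝ᵥ u = 1) :
    (1 + vecMulVec u φ) * (1 + vecMulVec v χ) * (1 + vecMulVec u φ)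
      = (1 + vecMulVec v χ) * (1 + vecMulVec u φ) * (1 + vecMulVec v χ) := by
  simp only [mul_add, add_mul, mul_one, one_mul, vecMulVec_mul_vecMulVec, h1, h2, h3, h4,
    vecMulVec_smul, zero_smul, one_smul, vecMulVec_zero, Matrix.smul_mul, Matrix.mul_smul,
    smul_zero, add_zero, zero_add]
  module

/-- the braid element exchanges the two root groups. -/
theorem dyad_braid_conj {u φ v χ : ι → F} (h1 : φ ⬝ᵥ u = 0) (h2 : χ ⬝ᵥ v = 0)
    (h3 : φ ⬝ᵥ v = -1) (h4 : χ ⬝ᵥ u = 1) (s : F) :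
    ((1 + vecMulVec u φ) * (1 + vecMulVec v χ) * (1 + vecMulVec u φ))
        * (1 + vecMulVec (s • v) χ)
      = (1 + vecMulVec u (s • φ))
        * ((1 + vecMulVec u φ) * (1 + vecMulVec v χ) * (1 + vecMulVec u φ)) := by
  simp only [mul_add, add_mul, mul_one, one_mul, vecMulVec_mul_vecMulVec, h1, h2, h3, h4,
    vecMulVec_smul, smul_vecMulVec, zero_smul, one_smul, vecMulVec_zero, Matrix.smul_mul,
    Matrix.mul_smul, smul_zero, add_zero, zero_add]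
  module

theorem DyIn.braid_conj {u φ v χ : ι → F} (h1 : φ ⬝ᵥ u = 0) (h2 : χ ⬝ᵥ v = 0)
    (h3 : φ ⬝ᵥ v = -1) (h4 : χ ⬝ᵥ u = 1) (hz : DyIn H u φ) (hx : DyIn H v χ) (s : F)
    (hs : DyIn H (s • v) χ) : DyIn H u (s • φ) := by
  obtain ⟨z, hzH, ez⟩ := hz
  obtain ⟨x, hxH, ex⟩ := hx
  refine DyIn.conj (z * x * z) (mul_mem (mul_mem hzH hxH) hzH) ?_ hs
  simp only [Matrix.SpecialLinearGroup.coe_mul, ez, ex]
  exact dyad_braid_conj h1 h2 h3 h4 s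

/-- group theoretic core: from `a = z m`, `b = k m`, an element `x` commuting with `k` and
braiding with `z`, all of `m`, `z`, `k` lie in `H`. -/
theorem dyad_core (H : Subgroup (Matrix.SpecialLinearGroup ι F))
    (m a b x : Matrix.SpecialLinearGroup ι F) (haH : a ∈ H) (hbH : b ∈ H) (hxH : x ∈ H)
    (Zm Km : Matrix ι ι F) (ha : a.1 = Zm * m.1) (hb : b.1 = Km * m.1)
    (hcomm : Km * x.1 = x.1 * Km) (hbraid : Zm * x.1 * Zm = x.1 * Zm * x.1) :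
    m ∈ H ∧ (∃ z : Matrix.SpecialLinearGroup ι F, z ∈ H ∧ z.1 = Zm) ∧
      (∃ k : Matrix.SpecialLinearGroup ι F, k ∈ H ∧ k.1 = Km) := by
  have hz : (a * m⁻¹).1 = Zm := sl_div_val a m Zm ha.symm
  have hk : (b * m⁻¹).1 = Km := sl_div_val b m Km hb.symm
  obtain ⟨z, hzd⟩ : ∃ z, z = a * m⁻¹ := ⟨_, rfl⟩
  obtain ⟨k, hkd⟩ : ∃ k, k = b * m⁻¹ := ⟨_, rfl⟩
  rw [← hzd] at hz
  rw [← hkd] at hk
  have hkx : k * x = x * k := Subtype.ext (by
    rw [Matrix.SpecialLinearGroup.coe_mul, Matrix.SpecialLinearGroup.coe_mul, hk]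
    exact hcomm)
  have hzxz : z * x * z = x * z * x := Subtype.ext (by
    simp only [Matrix.SpecialLinearGroup.coe_mul, hz]
    exact hbraid)
  have hd : a * b⁻¹ = z * k⁻¹ := by
    rw [hzd, hkd]
    group
  have e1 : z * x * z⁻¹ = (a * b⁻¹) * x * (a * b⁻¹)⁻¹ := by
    have e0 : k⁻¹ * (x * k) = x := by rw [← hkx, inv_mul_cancel_left]
    rw [hd]
    calc z * x * z⁻¹ = z * (k⁻¹ * (x * k)) * z⁻¹ := by rw [e0]
      _ = z * k⁻¹ * x * (z * k⁻¹)⁻¹ := by group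
  have hc : z * x * z⁻¹ ∈ H := by
    rw [e1]
    exact mul_mem (mul_mem (mul_mem haH (inv_mem hbH)) hxH)
      (inv_mem (mul_mem haH (inv_mem hbH)))
  have e2 : z = x * (z * x * z⁻¹) * x⁻¹ := by
    have e3 : x * (z * x * z⁻¹) = z * x := by
      calc x * (z * x * z⁻¹) = (x * z * x) * z⁻¹ := by group
        _ = (z * x * z) * z⁻¹ := by rw [hzxz]
        _ = z * x := by group
    rw [e3, mul_inv_cancel_right]
  have hzH : z ∈ H := by
    rw [e2]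
    exact mul_mem (mul_mem hxH hc) (inv_mem hxH)
  have hm : m = z⁻¹ * a := by
    rw [hzd]
    group
  have hmH : m ∈ H := by
    rw [hm]
    exact mul_mem (inv_mem hzH) haH
  refine ⟨hmH, ⟨z, hzH, hz⟩, ⟨k, ?_, hk⟩⟩
  rw [hkd]
  exact mul_mem hbH (inv_mem hmH)

/-! ### The two-generator configuration -/

/-- hypotheses of the two-generator configuration: `a = M + e₀ (ψ M)ᵀ`, `b = M + (M y₀) e₀*ᵀ`. -/
structure RU2 (M : Matrix ι ι F) (e0 e0s y0 ps : ι → F) (σ : F) : Prop where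
  hMe0 : M *ᵥ e0 = e0
  he0sM : e0s ᵥ* M = e0s
  h00 : e0s ⬝ᵥ e0 = 1
  h0y0 : e0s ⬝ᵥ y0 = 0
  hp0 : ps ⬝ᵥ e0 = 0
  hpy0 : ps ⬝ᵥ y0 = 0
  hpy : ps ⬝ᵥ (M *ᵥ y0) = 2
  hpyy : ps ⬝ᵥ (M *ᵥ (M *ᵥ y0)) = σ

section ru2
variable {M : Matrix ι ι F} {e0 e0s y0 ps : ι → F} {σ : F}

theorem RU2.h0y (hd : RU2 M e0 e0s y0 ps σ) : e0s ⬝ᵥ (M *ᵥ y0) = 0 := by
  rw [dotProduct_mulVec, hd.he0sM, hd.h0y0]

theorem RU2.hpM0 (hd : RU2 M e0 e0s y0 ps σ) : (ps ᵥ* M) ⬝ᵥ e0 = 0 := by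
  rw [← dotProduct_mulVec, hd.hMe0, hd.hp0]

theorem RU2.hpMy0 (hd : RU2 M e0 e0s y0 ps σ) : (ps ᵥ* M) ⬝ᵥ y0 = 2 := by
  rw [← dotProduct_mulVec, hd.hpy]

theorem RU2.hpMy (hd : RU2 M e0 e0s y0 ps σ) : (ps ᵥ* M) ⬝ᵥ (M *ᵥ y0) = σ := by
  rw [← dotProduct_mulVec, hd.hpyy]

/-- the matrix of `b a⁻¹`. -/
def ru2Hp (M : Matrix ι ι F) (e0 e0s y0 ps : ι → F) : Matrix ι ι F :=
  1 + vecMulVec (M *ᵥ y0) e0s - vecMulVec e0 ps - vecMulVec (M *ᵥ y0) ps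

/-- the matrix of `(b a⁻¹)²`. -/
def ru2Ep (M : Matrix ι ι F) (e0 e0s y0 ps : ι → F) : Matrix ι ι F :=
  1 - (2 : F) • vecMulVec e0 e0s - vecMulVec (M *ᵥ y0) ps

/-- the matrix of `a⁻¹ (b a⁻¹)² a`. -/
def ru2Em (M : Matrix ι ι F) (e0 e0s y0 ps : ι → F) : Matrix ι ι F :=
  1 - (2 : F) • vecMulVec e0 e0s - vecMulVec y0 (ps ᵥ* M)

theorem ru2_id1 (hd : RU2 M e0 e0s y0 ps σ) :
    ru2Hp M e0 e0s y0 ps * (M + vecMulVec e0 (ps ᵥ* M)) = M + vecMulVec (M *ᵥ y0) e0s := by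
  have hM2 : ∀ x y : ι → F, vecMulVec x y * M = vecMulVec x (y ᵥ* M) :=
    fun x y => vecMulVec_mul x y M
  unfold ru2Hp
  simp only [mul_add, add_mul, mul_sub, sub_mul, mul_one, one_mul, hM2, vecMulVec_mul_vecMulVec,
    hd.he0sM, hd.h00, hd.h0y0, hd.hp0, hd.hpy0, hd.hpy, hd.h0y, hd.hpM0, hd.hpMy0, hd.hpMy,
    vecMulVec_smul, zero_smul, one_smul, vecMulVec_zero, smul_zero, mul_zero, zero_mul,
    add_zero, zero_add, sub_zero]
  module

theorem ru2_id2 (hd : RU2 M e0 e0s y0 ps σ) :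
    ru2Hp M e0 e0s y0 ps * ru2Hp M e0 e0s y0 ps = ru2Ep M e0 e0s y0 ps := by
  unfold ru2Hp ru2Ep
  simp only [mul_add, add_mul, mul_sub, sub_mul, mul_one, one_mul, vecMulVec_mul_vecMulVec,
    hd.h00, hd.h0y0, hd.hp0, hd.hpy0, hd.hpy, hd.h0y, hd.hpM0, hd.hpMy0, hd.hpMy,
    vecMulVec_smul, zero_smul, one_smul, vecMulVec_zero, smul_zero, mul_zero, zero_mul,
    add_zero, zero_add, sub_zero]
  module

theorem ru2_id3 (hd : RU2 M e0 e0s y0 ps σ) :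
    ru2Ep M e0 e0s y0 ps * (M + vecMulVec e0 (ps ᵥ* M))
      = (M + vecMulVec e0 (ps ᵥ* M)) * ru2Em M e0 e0s y0 ps := by
  have hM1 : ∀ x y : ι → F, M * vecMulVec x y = vecMulVec (M *ᵥ x) y :=
    fun x y => mul_vecMulVec M x y
  have hM2 : ∀ x y : ι → F, vecMulVec x y * M = vecMulVec x (y ᵥ* M) :=
    fun x y => vecMulVec_mul x y M
  unfold ru2Ep ru2Em
  simp only [mul_add, add_mul, mul_sub, sub_mul, mul_one, one_mul, Matrix.smul_mul,
    Matrix.mul_smul, hM1, hM2, vecMulVec_mul_vecMulVec, hd.hMe0,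
    hd.he0sM, hd.h00, hd.h0y0, hd.hp0, hd.hpy0, hd.hpy, hd.h0y, hd.hpM0, hd.hpMy0, hd.hpMy,
    vecMulVec_smul, zero_smul, one_smul, vecMulVec_zero, smul_zero, mul_zero, zero_mul,
    add_zero, zero_add, sub_zero]
  module

theorem ru2_id4a (hd : RU2 M e0 e0s y0 ps σ) :
    ru2Em M e0 e0s y0 ps * ru2Ep M e0 e0s y0 ps
      = 1 - vecMulVec (M *ᵥ y0) ps - vecMulVec y0 (ps ᵥ* M) + σ • vecMulVec y0 ps := by
  unfold ru2Ep ru2Em
  simp only [mul_add, add_mul, mul_sub, sub_mul, mul_one, one_mul, Matrix.smul_mul,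
    Matrix.mul_smul, vecMulVec_mul_vecMulVec,
    hd.h00, hd.h0y0, hd.hp0, hd.hpy0, hd.hpy, hd.h0y, hd.hpM0, hd.hpMy0, hd.hpMy,
    vecMulVec_smul, zero_smul, one_smul, vecMulVec_zero, smul_zero, mul_zero, zero_mul,
    add_zero, zero_add, sub_zero]
  module

theorem ru2_id4 (hd : RU2 M e0 e0s y0 ps σ) :
    (ru2Em M e0 e0s y0 ps * ru2Ep M e0 e0s y0 ps)
        * (ru2Em M e0 e0s y0 ps * ru2Ep M e0 e0s y0 ps)
      = 1 - σ • vecMulVec y0 ps := by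
  rw [ru2_id4a hd]
  simp only [mul_add, add_mul, mul_sub, sub_mul, mul_one, one_mul, Matrix.smul_mul,
    Matrix.mul_smul, vecMulVec_mul_vecMulVec,
    hd.h00, hd.h0y0, hd.hp0, hd.hpy0, hd.hpy, hd.h0y, hd.hpM0, hd.hpMy0, hd.hpMy,
    vecMulVec_smul, zero_smul, one_smul, vecMulVec_zero, smul_zero, mul_zero, zero_mul,
    add_zero, zero_add, sub_zero]
  module

theorem ru2_id5 (hd : RU2 M e0 e0s y0 ps σ) :
    (1 - σ • vecMulVec y0 ps) * (1 + σ • vecMulVec y0 ps) = 1 := by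
  simp only [mul_add, add_mul, mul_sub, sub_mul, mul_one, one_mul, Matrix.smul_mul,
    Matrix.mul_smul, vecMulVec_mul_vecMulVec,
    hd.h00, hd.h0y0, hd.hp0, hd.hpy0, hd.hpy, hd.h0y, hd.hpM0, hd.hpMy0, hd.hpMy,
    vecMulVec_smul, zero_smul, one_smul, vecMulVec_zero, smul_zero, mul_zero, zero_mul,
    add_zero, zero_add, sub_zero]
  module

theorem ru2_id6 (hd : RU2 M e0 e0s y0 ps σ) :
    (1 + (-(2 * σ)) • vecMulVec y0 e0s) * ((1 + σ • vecMulVec y0 ps) * ru2Hp M e0 e0s y0 ps)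
      = ru2Hp M e0 e0s y0 ps * (1 + σ • vecMulVec y0 ps) := by
  unfold ru2Hp
  simp only [mul_add, add_mul, mul_sub, sub_mul, mul_one, one_mul, Matrix.smul_mul,
    Matrix.mul_smul, vecMulVec_mul_vecMulVec,
    hd.h00, hd.h0y0, hd.hp0, hd.hpy0, hd.hpy, hd.h0y, hd.hpM0, hd.hpMy0, hd.hpMy,
    vecMulVec_smul, zero_smul, one_smul, vecMulVec_zero, smul_zero, mul_zero, zero_mul,
    add_zero, zero_add, sub_zero]
  module

theorem ru2_id7 (hd : RU2 M e0 e0s y0 ps σ) :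
    (1 + σ • vecMulVec y0 e0s) * (ru2Em M e0 e0s y0 ps * ru2Hp M e0 e0s y0 ps)
      = ru2Hp M e0 e0s y0 ps * ru2Em M e0 e0s y0 ps
        + (2 : F) • (vecMulVec e0 ps - σ • vecMulVec y0 e0s + σ • vecMulVec y0 ps
          + vecMulVec (M *ᵥ y0) e0s) := by
  unfold ru2Hp ru2Em
  simp only [mul_add, add_mul, mul_sub, sub_mul, mul_one, one_mul, Matrix.smul_mul,
    Matrix.mul_smul, vecMulVec_mul_vecMulVec,
    hd.h00, hd.h0y0, hd.hp0, hd.hpy0, hd.hpy, hd.h0y, hd.hpM0, hd.hpMy0, hd.hpMy,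
    vecMulVec_smul, zero_smul, one_smul, vecMulVec_zero, smul_zero, mul_zero, zero_mul,
    add_zero, zero_add, sub_zero]
  module

theorem ru2_idS (hd : RU2 M e0 e0s y0 ps σ) (v : ι → F) (hv : e0s ⬝ᵥ v = 0) :
    (M + vecMulVec (M *ᵥ y0) e0s) * (1 + vecMulVec v e0s)
      = (1 + vecMulVec (M *ᵥ v) e0s) * (M + vecMulVec (M *ᵥ y0) e0s) := by
  have hM1 : ∀ x y : ι → F, M * vecMulVec x y = vecMulVec (M *ᵥ x) y :=
    fun x y => mul_vecMulVec M x y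
  have hM2 : ∀ x y : ι → F, vecMulVec x y * M = vecMulVec x (y ᵥ* M) :=
    fun x y => vecMulVec_mul x y M
  simp only [mul_add, add_mul, mul_sub, sub_mul, mul_one, one_mul, Matrix.smul_mul,
    Matrix.mul_smul, hM1, hM2, vecMulVec_mul_vecMulVec, hd.hMe0, hv,
    hd.he0sM, hd.h00, hd.h0y0, hd.hp0, hd.hpy0, hd.hpy, hd.h0y, hd.hpM0, hd.hpMy0, hd.hpMy,
    vecMulVec_smul, zero_smul, one_smul, vecMulVec_zero, smul_zero, mul_zero, zero_mul,
    add_zero, zero_add, sub_zero]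
  module

theorem ru2_idE (hd : RU2 M e0 e0s y0 ps σ) (v : ι → F) (hv : e0s ⬝ᵥ v = 0) :
    ru2Ep M e0 e0s y0 ps * (1 + vecMulVec v e0s)
      = (1 + vecMulVec ((ps ⬝ᵥ v) • (M *ᵥ y0) - v) e0s) * ru2Ep M e0 e0s y0 ps := by
  unfold ru2Ep
  simp only [mul_add, add_mul, mul_sub, sub_mul, mul_one, one_mul, Matrix.smul_mul,
    Matrix.mul_smul, vecMulVec_mul_vecMulVec, hv, sub_vecMulVec, smul_vecMulVec,
    hd.h00, hd.h0y0, hd.hp0, hd.hpy0, hd.hpy, hd.h0y, hd.hpM0, hd.hpMy0, hd.hpMy,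
    vecMulVec_smul, zero_smul, one_smul, vecMulVec_zero, smul_zero, mul_zero, zero_mul,
    add_zero, zero_add, sub_zero]
  module

/-- the seed: a nontrivial element of the root group `1 + F y₀ e₀*ᵀ` in `⟨a, b⟩`. -/
theorem ru2_seed (hd : RU2 M e0 e0s y0 ps σ) (H : Subgroup (Matrix.SpecialLinearGroup ι F))
    (a b : Matrix.SpecialLinearGroup ι F)
    (ha : a.1 = M + vecMulVec e0 (ps ᵥ* M)) (hb : b.1 = M + vecMulVec (M *ᵥ y0) e0s)
    (haH : a ∈ H) (hbH : b ∈ H) :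
    DyIn H ((-(2 * σ)) • y0) e0s ∧ ((2 : F) = 0 → DyIn H (σ • y0) e0s) ∧
      ∃ ε : Matrix.SpecialLinearGroup ι F, ε ∈ H ∧ ε.1 = ru2Ep M e0 e0s y0 ps := by
  have h1 : (b * a⁻¹).1 = ru2Hp M e0 e0s y0 ps :=
    sl_div_val b a _ (by rw [ha, hb]; exact ru2_id1 hd)
  have h1H : b * a⁻¹ ∈ H := mul_mem hbH (inv_mem haH)
  obtain ⟨hp, hhp⟩ : ∃ x, x = b * a⁻¹ := ⟨_, rfl⟩
  rw [← hhp] at h1 h1H
  have h2 : (hp * hp).1 = ru2Ep M e0 e0s y0 ps := by
    rw [Matrix.SpecialLinearGroup.coe_mul, h1]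
    exact ru2_id2 hd
  have h2H : hp * hp ∈ H := mul_mem h1H h1H
  obtain ⟨ε, hε⟩ : ∃ x, x = hp * hp := ⟨_, rfl⟩
  rw [← hε] at h2 h2H
  have h3 : (a⁻¹ * ε * a).1 = ru2Em M e0 e0s y0 ps :=
    sl_conj_val a ε _ _ h2 (by rw [ha]; exact ru2_id3 hd)
  have h3H : a⁻¹ * ε * a ∈ H := mul_mem (mul_mem (inv_mem haH) h2H) haH
  obtain ⟨εm, hεm⟩ : ∃ x, x = a⁻¹ * ε * a := ⟨_, rfl⟩
  rw [← hεm] at h3 h3H
  have h4 : ((εm * ε) * (εm * ε)).1 = 1 - σ • vecMulVec y0 ps := by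
    simp only [Matrix.SpecialLinearGroup.coe_mul, h2, h3]
    exact ru2_id4 hd
  have h4H : (εm * ε) * (εm * ε) ∈ H := mul_mem (mul_mem h3H h2H) (mul_mem h3H h2H)
  obtain ⟨t, ht⟩ : ∃ x, x = (εm * ε) * (εm * ε) := ⟨_, rfl⟩
  rw [← ht] at h4 h4H
  have h5 : (t⁻¹).1 = 1 + σ • vecMulVec y0 ps :=
    sl_inv_val_of_mul t _ (by rw [h4]; exact ru2_id5 hd)
  have h5H : t⁻¹ ∈ H := inv_mem h4H
  refine ⟨?_, ?_, ε, h2H, h2⟩
  · refine ⟨(hp * t⁻¹) * (t⁻¹ * hp)⁻¹,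
      mul_mem (mul_mem h1H h5H) (inv_mem (mul_mem h5H h1H)), ?_⟩
    rw [smul_vecMulVec]
    refine sl_div_val _ _ _ ?_
    rw [Matrix.SpecialLinearGroup.coe_mul, Matrix.SpecialLinearGroup.coe_mul, h1, h5]
    exact ru2_id6 hd
  · intro h2z
    refine ⟨(hp * εm) * (εm * hp)⁻¹,
      mul_mem (mul_mem h1H h3H) (inv_mem (mul_mem h3H h1H)), ?_⟩
    rw [smul_vecMulVec]
    refine sl_div_val _ _ _ ?_
    rw [Matrix.SpecialLinearGroup.coe_mul, Matrix.SpecialLinearGroup.coe_mul, h1, h3]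
    rw [ru2_id7 hd, h2z, zero_smul, add_zero]

/-- conjugation by `b` acts as `M` on the column root group. -/
theorem ru2_colM (hd : RU2 M e0 e0s y0 ps σ) (H : Subgroup (Matrix.SpecialLinearGroup ι F))
    (b : Matrix.SpecialLinearGroup ι F) (hb : b.1 = M + vecMulVec (M *ᵥ y0) e0s) (hbH : b ∈ H)
    (v : ι → F) (hv : e0s ⬝ᵥ v = 0) : DyIn H v e0s ↔ DyIn H (M *ᵥ v) e0s :=
  ⟨DyIn.conj b hbH (by rw [hb]; exact ru2_idS hd v hv),
   DyIn.conj_rev b hbH (by rw [hb]; exact ru2_idS hd v hv)⟩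

/-- conjugation by `ε = (b a⁻¹)²` on the column root group. -/
theorem ru2_colE (hd : RU2 M e0 e0s y0 ps σ) (H : Subgroup (Matrix.SpecialLinearGroup ι F))
    (b ε : Matrix.SpecialLinearGroup ι F) (hb : b.1 = M + vecMulVec (M *ᵥ y0) e0s)
    (hbH : b ∈ H) (hε : ε.1 = ru2Ep M e0 e0s y0 ps) (hεH : ε ∈ H)
    (v : ι → F) (hv : e0s ⬝ᵥ v = 0) (h : DyIn H v e0s) :
    DyIn H ((ps ⬝ᵥ v) • y0) e0s := by
  have h1 : DyIn H ((ps ⬝ᵥ v) • (M *ᵥ y0) - v) e0s :=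
    DyIn.conj ε hεH (by rw [hε]; exact ru2_idE hd v hv) h
  have h2 := DyIn.add_left hv h1 h
  rw [sub_add_cancel] at h2
  have h3 : (ps ⬝ᵥ v) • (M *ᵥ y0) = M *ᵥ ((ps ⬝ᵥ v) • y0) := (Matrix.mulVec_smul M _ _).symm
  rw [h3] at h2
  exact (ru2_colM hd H b hb hbH _ (by rw [dotProduct_smul, hd.h0y0, smul_zero])).2 h2

/-- the core: once the root group `1 + F v e₀*ᵀ` (with `ψ v = -1`) lies in `H`, so do `M`,
`1 + (M y₀) e₀*ᵀ` and the row root group `1 + F e₀ ψᵀ`. -/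
theorem ru2_core (hd : RU2 M e0 e0s y0 ps σ) (H : Subgroup (Matrix.SpecialLinearGroup ι F))
    (m a b : Matrix.SpecialLinearGroup ι F) (hm : m.1 = M)
    (ha : a.1 = M + vecMulVec e0 (ps ᵥ* M)) (hb : b.1 = M + vecMulVec (M *ᵥ y0) e0s)
    (haH : a ∈ H) (hbH : b ∈ H)
    (v : ι → F) (hv0 : e0s ⬝ᵥ v = 0) (hv1 : ps ⬝ᵥ v = -1)
    (hx : ∀ s : F, DyIn H (s • v) e0s) :
    m ∈ H ∧ DyIn H (M *ᵥ y0) e0s ∧ ∀ s : F, DyIn H e0 (s • ps) := by
  have hx1 := hx 1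
  rw [one_smul] at hx1
  obtain ⟨x, hxH, ex⟩ := hx1
  have ha' : a.1 = (1 + vecMulVec e0 ps) * m.1 := by
    rw [ha, hm, add_mul, one_mul, vecMulVec_mul]
  have hb' : b.1 = (1 + vecMulVec (M *ᵥ y0) e0s) * m.1 := by
    rw [hb, hm, add_mul, one_mul, vecMulVec_mul, hd.he0sM]
  have hcomm : (1 + vecMulVec (M *ᵥ y0) e0s) * x.1 = x.1 * (1 + vecMulVec (M *ᵥ y0) e0s) := by
    rw [ex]
    simp only [mul_add, add_mul, mul_one, one_mul, vecMulVec_mul_vecMulVec, hv0, hd.h0y,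
      zero_smul, vecMulVec_zero, add_zero]
    abel
  have hbraid : (1 + vecMulVec e0 ps) * x.1 * (1 + vecMulVec e0 ps)
      = x.1 * (1 + vecMulVec e0 ps) * x.1 := by
    rw [ex]
    exact dyad_braid hd.hp0 hv0 hv1 hd.h00
  obtain ⟨hmH, hz, hk⟩ := dyad_core H m a b x haH hbH hxH _ _ ha' hb' hcomm hbraid
  refine ⟨hmH, hk, fun s => ?_⟩
  exact DyIn.braid_conj hd.hp0 hv0 hv1 hd.h00 hz ⟨x, hxH, ex⟩ s (hx s)

/-- conjugation by `M⁻¹` acts as `M` on the row root group. -/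
theorem ru2_rowM (hMe0 : M *ᵥ e0 = e0) (H : Subgroup (Matrix.SpecialLinearGroup ι F))
    (m : Matrix.SpecialLinearGroup ι F) (hm : m.1 = M) (hmH : m ∈ H) (φ : ι → F)
    (h : DyIn H e0 φ) : DyIn H e0 (φ ᵥ* M) :=
  DyIn.conj_rev m hmH (by
    rw [hm]
    simp only [mul_add, add_mul, mul_one, one_mul, mul_vecMulVec, vecMulVec_mul, hMe0]) h

/-- conjugation by `M` acts as `M` on the column root group. -/
theorem ru2_colM' (he0sM : e0s ᵥ* M = e0s) (H : Subgroup (Matrix.SpecialLinearGroup ι F))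
    (m : Matrix.SpecialLinearGroup ι F) (hm : m.1 = M) (hmH : m ∈ H) (v : ι → F)
    (h : DyIn H v e0s) : DyIn H (M *ᵥ v) e0s :=
  DyIn.conj m hmH (by
    rw [hm]
    simp only [mul_add, add_mul, mul_one, one_mul, mul_vecMulVec, vecMulVec_mul, he0sM]) h

end ru2

end dyad

end Cfsg.Agent.Helper13
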