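import Mathlib

set_option autoImplicit false

namespace Cfsg.Agent.Helper13

open Module

section hermbasis
variable {F V : Type*} [Field F] [AddCommGroup V] [Module F V]

/-- Surjectivity of the norm `l ↦ l * σ l` of a finite field with an involution `σ ≠ id`
onto the non-zero fixed points of `σ`. -/
theorem norm_surj [Finite F] (σ : F →+* F) (hσ : σ ≠ RingHom.id F) (hσ2 : ∀ a : F, σ (σ a) = a)
    (c : F) (hc0 : c ≠ 0) (hc : σ c = c) : ∃ l : F, l * σ l = c := by
  classical
  let σu : Fˣ →* Fˣ := Units.map (σ : F →* F)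
  let N : Fˣ →* Fˣ := MonoidHom.id Fˣ * σu
  let φ : Fˣ →* Fˣ := MonoidHom.id Fˣ / σu
  have hσu : ∀ a : Fˣ, ((σu a : Fˣ) : F) = σ a := fun a => rfl
  have hN : ∀ a : Fˣ, N a = a * σu a := fun a => rfl
  have hφ : ∀ a : Fˣ, φ a = a / σu a := fun a => rfl
  have hσσ : ∀ a : Fˣ, σu (σu a) = a := fun a => Units.ext (hσ2 a)
  have h1 : N.ker = φ.range := by
    ext l
    constructor
    · intro hl
      rw [MonoidHom.mem_ker, hN] at hl
      have hl' : (l : F) * σ l = 1 := by
        have := congrArg Units.val hl
        simpa [hσu] using this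
      obtain ⟨x, hx⟩ : ∃ x : F, x + l * σ x ≠ 0 := by
        by_cases h : (1 : F) + l = 0
        · obtain ⟨x, hx⟩ : ∃ x, σ x ≠ x := by
            by_contra hcon
            push Not at hcon
            exact hσ (RingHom.ext hcon)
          refine ⟨x, ?_⟩
          have hl1 : (l : F) = -1 := by linear_combination h
          rw [hl1]
          intro h0
          apply hx
          linear_combination -h0
        · exact ⟨1, by simpa using h⟩
      have hsa : (l : F) * σ (x + l * σ x) = x + l * σ x := by
        rw [map_add, map_mul, hσ2]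
        linear_combination x * hl'
      refine ⟨Units.mk0 _ hx, ?_⟩
      rw [hφ, div_eq_iff_eq_mul]
      apply Units.ext
      simp only [Units.val_mul, hσu, Units.val_mk0]
      exact hsa.symm
    · rintro ⟨a, rfl⟩
      rw [MonoidHom.mem_ker, hN, hφ, map_div, hσσ, div_mul_div_cancel, div_self']
  have h2 : ∀ a : Fˣ, a ∈ φ.ker ↔ σ (a : F) = a := by
    intro a
    rw [MonoidHom.mem_ker, hφ, div_eq_one]
    constructor
    · intro h
      have := congrArg Units.val h
      rw [hσu] at this
      exact this.symm
    · intro h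
      apply Units.ext
      rw [hσu]; exact h.symm
  have h3 : N.range ≤ φ.ker := by
    rintro _ ⟨a, rfl⟩
    rw [h2, hN]
    simp only [Units.val_mul, hσu, map_mul, hσ2]
    ring
  have hcard : Nat.card N.range = Nat.card φ.ker := by
    have e1 := Subgroup.card_mul_index N.ker
    have e2 := Subgroup.card_mul_index φ.ker
    rw [Subgroup.index_ker] at e1 e2
    rw [h1] at e1
    have hpos : 0 < Nat.card φ.range := Nat.card_pos
    exact Nat.eq_of_mul_eq_mul_left hpos (by rw [e1, mul_comm, e2])
  have h4 : N.range = φ.ker := Subgroup.eq_of_le_of_card_ge h3 hcard.ge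
  have hmem : Units.mk0 c hc0 ∈ N.range := by rw [h4, h2]; simpa using hc
  obtain ⟨a, ha⟩ := hmem
  refine ⟨a, ?_⟩
  have := congrArg Units.val ha
  simpa [hN, hσu] using this

variable (σ : F →+* F) (B : V →ₛₗ[σ] V →ₗ[F] F)

theorem herm_orthonormal_li {k : ℕ} (e : Fin k → V)
    (he : ∀ i j, B (e i) (e j) = if i = j then 1 else 0) : LinearIndependent F e := by
  classical
  rw [linearIndependent_iff']
  intro s c hs j hj
  have h := congrArg (B (e j)) hs
  simp only [map_sum, map_smul, he, smul_eq_mul, mul_ite, mul_one, mul_zero, map_zero,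
    Finset.sum_ite_eq, hj, if_true] at h
  exact h

theorem herm_extend [Finite F] [FiniteDimensional F V] (hσ : σ ≠ RingHom.id F)
    (hσ2 : ∀ a : F, σ (σ a) = a) (hS : B.IsSymm) (hB : B.Nondegenerate) {k : ℕ}
    (hk : k < finrank F V) (e : Fin k → V)
    (he : ∀ i j, B (e i) (e j) = if i = j then 1 else 0) :
    ∃ u : V, (∀ i, B (e i) u = 0) ∧ B u u = 1 := by
  classical
  have hli := herm_orthonormal_li σ B e he
  -- a vector outside the span
  obtain ⟨x, hx⟩ : ∃ x : V, x ∉ Submodule.span F (Set.range e) := by
    by_contra hcon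
    push Not at hcon
    have htop : Submodule.span F (Set.range e) = ⊤ := by
      rw [Submodule.eq_top_iff']; exact hcon
    have h1 := finrank_span_eq_card hli
    rw [htop, finrank_top] at h1
    simp at h1
    omega
  let proj : V → V := fun v => ∑ i, B (e i) v • e i
  have hproj_mem : ∀ v, proj v ∈ Submodule.span F (Set.range e) := fun v =>
    Submodule.sum_mem _ fun i _ => Submodule.smul_mem _ _ (Submodule.subset_span ⟨i, rfl⟩)
  have hperp : ∀ v j, B (e j) (v - proj v) = 0 := by
    intro v j
    simp only [proj, map_sub, map_sum, map_smul, he, smul_eq_mul, mul_ite, mul_one, mul_zero,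
      Finset.sum_ite_eq, Finset.mem_univ, if_true, sub_self]
  have hsymm : ∀ a b, σ (B a b) = B b a := hS.eq
  have hx' : x - proj x ≠ 0 := by
    intro h
    apply hx
    have : x = proj x := sub_eq_zero.mp h
    rw [this]; exact hproj_mem x
  -- an anisotropic vector in the complement
  obtain ⟨u, hu, huu⟩ : ∃ u : V, (∀ i, B (e i) u = 0) ∧ B u u ≠ 0 := by
    by_contra hcon
    push Not at hcon
    obtain ⟨c, hc⟩ : ∃ c, σ c ≠ c := by
      by_contra hcon'
      push Not at hcon'
      exact hσ (RingHom.ext hcon')
    have hzero : ∀ u w : V, (∀ i, B (e i) u = 0) → (∀ i, B (e i) w = 0) → B u w = 0 := by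
      intro u w hu hw
      have key : ∀ w' : V, (∀ i, B (e i) w' = 0) → B u w' + σ (B u w') = 0 := by
        intro w' hw'
        have h1 := hcon (u + w') (fun i => by rw [map_add, hu i, hw' i, add_zero])
        simp only [map_add, LinearMap.add_apply] at h1
        rw [hcon u hu, hcon w' hw', ← hsymm u w'] at h1
        linear_combination h1
      have k1 := key w hw
      have k2 := key (c • w) (fun i => by rw [map_smul, hw i, smul_zero])
      simp only [map_smul, smul_eq_mul, map_mul] at k2
      have k3 : (c - σ c) * B u w = 0 := by linear_combination k2 - σ c * k1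
      rcases mul_eq_zero.mp k3 with h | h
      · exact absurd (sub_eq_zero.mp h).symm hc
      · exact h
    apply hx'
    apply hB.1
    intro v
    have hv : v = proj v + (v - proj v) := by abel
    rw [hv, map_add, hzero _ _ (hperp x) (hperp v), add_zero]
    simp only [proj, map_sum, map_smul, smul_eq_mul]
    apply Finset.sum_eq_zero
    intro i _
    rw [← hsymm (e i) (x - proj x), hperp x i, map_zero, mul_zero]
  have hfix : σ (B u u) = B u u := hsymm u u
  obtain ⟨l, hl⟩ := norm_surj σ hσ hσ2 (B u u)⁻¹ (inv_ne_zero huu) (by rw [map_inv₀, hfix])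
  refine ⟨l • u, fun i => by rw [map_smul, hu i, smul_zero], ?_⟩
  simp only [LinearMap.map_smulₛₗ, LinearMap.smul_apply, map_smul, smul_eq_mul]
  rw [← mul_assoc, hl, inv_mul_cancel₀ huu]

theorem herm_exists_orthonormal [Finite F] [FiniteDimensional F V] (hσ : σ ≠ RingHom.id F)
    (hσ2 : ∀ a : F, σ (σ a) = a) (hS : B.IsSymm) (hB : B.Nondegenerate) :
    ∀ k ≤ finrank F V, ∃ e : Fin k → V, ∀ i j, B (e i) (e j) = if i = j then 1 else 0 := by
  intro k
  induction k with
  | zero => intro _; exact ⟨Fin.elim0, fun i => i.elim0⟩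
  | succ k ih =>
    intro hk
    obtain ⟨e, he⟩ := ih (by omega)
    obtain ⟨u, hu, huu⟩ := herm_extend σ B hσ hσ2 hS hB (by omega) e he
    refine ⟨Fin.cons u e, ?_⟩
    intro i j
    refine Fin.cases ?_ (fun i' => ?_) i <;> refine Fin.cases ?_ (fun j' => ?_) j
    · simpa using huu
    · simp only [Fin.cons_zero, Fin.cons_succ]
      rw [← hS.eq, hu j', map_zero]
      simp [Fin.ext_iff]
    · simp only [Fin.cons_zero, Fin.cons_succ]
      rw [hu i']
      simp [Fin.ext_iff]
    · simp only [Fin.cons_succ, he, Fin.succ_inj]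

/-- S0755: a non-degenerate Hermitian form over a finite field has an orthonormal basis. -/
theorem herm_exists_orthonormal_basis [Finite F] [FiniteDimensional F V] (hσ : σ ≠ RingHom.id F)
    (hσ2 : ∀ a : F, σ (σ a) = a) (hS : B.IsSymm) (hB : B.Nondegenerate) :
    ∃ b : Module.Basis (Fin (Module.finrank F V)) F V,
      ∀ i j, B (b i) (b j) = if i = j then 1 else 0 := by
  obtain ⟨e, he⟩ := herm_exists_orthonormal σ B hσ hσ2 hS hB (finrank F V) le_rfl
  have hli := herm_orthonormal_li σ B e he
  have htop := hli.span_eq_top_of_card_eq_finrank' (by simp)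
  refine ⟨Module.Basis.mk hli htop.ge, ?_⟩
  intro i j
  simp only [Module.Basis.coe_mk]
  exact he i j

end hermbasis

end Cfsg.Agent.Helper13
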