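import Mathlib
import Cfsg.Agent.Helper13.TvCalc

/-!
# Three conjugate regular unipotent elements generating `SL_{N+1}(F)` (helper13)

`ruU` is the all-ones upper triangular matrix (a regular unipotent element).  For a generator
`r` of the multiplicative group of the finite field `F` we take its conjugates by the elementary
matrix `T_{01}(-r⁻¹)` and by the monomial matrix `ruG`; the three elements generate
`SL_{N+1}(F)` for `N ≥ 2` (`regUnip3_exists`).
-/

set_option autoImplicit false
set_option linter.unusedSimpArgs false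
set_option linter.unusedSectionVars false
set_option linter.unusedVariables false
set_option linter.unreachableTactic false
set_option linter.unusedTactic false
set_option linter.unnecessarySeqFocus false

namespace Cfsg.Agent.Helper13

open Matrix

section regunip
variable {F : Type*} [Field F] {N : ℕ}

/-- the index `k` of `Fin (N + 1)` (truncated at `N`). -/
def rix (N : ℕ) (k : ℕ) : Fin (N + 1) := ⟨min k N, by omega⟩

theorem rix_val (N k : ℕ) : (rix N k).val = min k N := rfl

theorem rix_ne {N j k : ℕ} (h : min j N ≠ min k N) : rix N j ≠ rix N k :=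
  fun e => h (congrArg Fin.val e)

theorem rix_self (b : Fin (N + 1)) : rix N b.val = b :=
  Fin.ext (by rw [rix_val]; have := b.2; omega)

/-- entries of `T_{ij}(t) * A`, conditions on values. -/
theorem tv_mul_entry_fin (i j : Fin (N + 1)) (t : F) (A : Matrix (Fin (N + 1)) (Fin (N + 1)) F)
    (a b : Fin (N + 1)) :
    (Matrix.transvection i j t * A) a b = A a b + if a.val = i.val then t * A j b else 0 := by
  rw [tv_mul_entry]
  simp only [Fin.ext_iff]

/-- entries of `A * T_{ij}(t)`, conditions on values. -/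
theorem mul_tv_entry_fin (i j : Fin (N + 1)) (t : F) (A : Matrix (Fin (N + 1)) (Fin (N + 1)) F)
    (a b : Fin (N + 1)) :
    (A * Matrix.transvection i j t) a b = A a b + if b.val = j.val then t * A a i else 0 := by
  rw [mul_tv_entry]
  simp only [Fin.ext_iff]

/-- the all-ones upper triangular matrix. -/
def ruU (N : ℕ) (F : Type*) [Field F] : Matrix (Fin (N + 1)) (Fin (N + 1)) F :=
  Matrix.of fun a b => if a.val ≤ b.val then 1 else 0

theorem ruU_apply (a b : Fin (N + 1)) : ruU N F a b = if a.val ≤ b.val then 1 else 0 := rfl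

/-- an upper unitriangular matrix with trivial first row and column. -/
def ruV (N : ℕ) (l : F) : Matrix (Fin (N + 1)) (Fin (N + 1)) F :=
  Matrix.of fun a b => if a.val = b.val then 1 else
    if 1 ≤ a.val ∧ a.val < b.val then (if a.val = 1 then l else 1) else 0

theorem ruV_apply (l : F) (a b : Fin (N + 1)) :
    ruV N l a b = if a.val = b.val then 1 else
      if 1 ≤ a.val ∧ a.val < b.val then (if a.val = 1 then l else 1) else 0 := rfl

/-- the coefficients of the monomial matrix `ruG`. -/
def ruD (N : ℕ) (l m : F) (b : Fin (N + 1)) : F :=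
  if b.val = 0 then l else if b.val = N then m else 1

/-- the cyclic monomial matrix `e_b ↦ d_b e_{b+1}`. -/
def ruG (N : ℕ) (l m : F) : Matrix (Fin (N + 1)) (Fin (N + 1)) F :=
  Matrix.of fun a b => if a.val = b.val + 1 then ruD N l m b else
    if a.val = 0 ∧ b.val = N then ruD N l m b else 0

theorem ruG_apply (l m : F) (a b : Fin (N + 1)) :
    ruG N l m a b = if a.val = b.val + 1 then ruD N l m b else
      if a.val = 0 ∧ b.val = N then ruD N l m b else 0 := rfl

/-- cyclic predecessor. -/
def rpred (a : Fin (N + 1)) : Fin (N + 1) := rix N (if a.val = 0 then N else a.val - 1)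

/-- cyclic successor. -/
def rsucc (b : Fin (N + 1)) : Fin (N + 1) := rix N (if b.val = N then 0 else b.val + 1)

theorem ruG_mul_entry (l m : F) (A : Matrix (Fin (N + 1)) (Fin (N + 1)) F) (a b : Fin (N + 1)) :
    (ruG N l m * A) a b = ruD N l m (rpred a) * A (rpred a) b := by
  have ha := a.2
  rw [Matrix.mul_apply, Finset.sum_eq_single (rpred a)]
  · congr 1
    rw [ruG_apply]
    unfold rpred
    by_cases ha0 : a.val = 0
    · rw [if_pos ha0, if_neg (by rw [rix_val]; omega), if_pos ⟨ha0, by rw [rix_val]; omega⟩]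
    · rw [if_neg ha0, if_pos (by rw [rix_val]; omega)]
  · intro c _ hc
    have hc2 := c.2
    have : ruG N l m a c = 0 := by
      rw [ruG_apply]
      have hne : c.val ≠ (rpred a).val := fun h => hc (Fin.ext h)
      unfold rpred at hne
      by_cases ha0 : a.val = 0
      · rw [if_pos ha0, rix_val] at hne
        rw [if_neg (by omega), if_neg (by omega)]
      · rw [if_neg ha0, rix_val] at hne
        rw [if_neg (by omega), if_neg (by omega)]
    rw [this, zero_mul]
  · intro h
    exact absurd (Finset.mem_univ _) h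

theorem mul_ruG_entry (l m : F) (A : Matrix (Fin (N + 1)) (Fin (N + 1)) F) (a b : Fin (N + 1)) :
    (A * ruG N l m) a b = A a (rsucc b) * ruD N l m b := by
  have hb := b.2
  rw [Matrix.mul_apply, Finset.sum_eq_single (rsucc b)]
  · congr 1
    rw [ruG_apply]
    unfold rsucc
    by_cases hbN : b.val = N
    · rw [if_pos hbN, if_neg (by rw [rix_val]; omega), if_pos ⟨by rw [rix_val]; omega, hbN⟩]
    · rw [if_neg hbN, if_pos (by rw [rix_val]; omega)]
  · intro c _ hc
    have hc2 := c.2
    have : ruG N l m c b = 0 := by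
      rw [ruG_apply]
      have hne : c.val ≠ (rsucc b).val := fun h => hc (Fin.ext h)
      unfold rsucc at hne
      by_cases hbN : b.val = N
      · rw [if_pos hbN, rix_val] at hne
        rw [if_neg (by omega), if_neg (by omega)]
      · rw [if_neg hbN, rix_val] at hne
        rw [if_neg (by omega), if_neg (by omega)]
    rw [this, mul_zero]
  · intro h
    exact absurd (Finset.mem_univ _) h

/-! ### The matrix identities -/

theorem ruU_i1 (hN : 2 ≤ N) (t : F) :
    Matrix.transvection (rix N 0) (rix N 1) t * ruU N F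
      = Matrix.transvection (rix N 0) (rix N 2) t * ruU N F
        * Matrix.transvection (rix N 0) (rix N 1) t := by
  ext a b
  have ha := a.2
  have hb := b.2
  have e0 : (rix N 0).val = 0 := by rw [rix_val]; omega
  have e1 : (rix N 1).val = 1 := by rw [rix_val]; omega
  have e2 : (rix N 2).val = 2 := by rw [rix_val]; omega
  have eN : (rix N N).val = N := by rw [rix_val]; omega
  simp only [tv_mul_entry_fin, mul_tv_entry_fin, ruU_apply]
  split_ifs <;> first | ring1 | omega

theorem ruU_i2 {j : ℕ} (hj : 2 ≤ j) (hjN : j + 1 ≤ N) (t : F) :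
    ruU N F * Matrix.transvection (rix N 0) (rix N j) t
      = Matrix.transvection (rix N 0) (rix N j) t
        * (Matrix.transvection (rix N 0) (rix N (j + 1)) (-t) * ruU N F) := by
  ext a b
  have ha := a.2
  have hb := b.2
  have e0 : (rix N 0).val = 0 := by rw [rix_val]; omega
  have e1 : (rix N 1).val = 1 := by rw [rix_val]; omega
  have eN : (rix N N).val = N := by rw [rix_val]; omega
  have ej : (rix N j).val = j := by rw [rix_val]; omega
  have ej' : (rix N (j + 1)).val = j + 1 := by rw [rix_val]; omega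
  simp only [tv_mul_entry_fin, mul_tv_entry_fin, ruU_apply]
  split_ifs <;> first | ring1 | omega

theorem ruU_i2N (hN : 2 ≤ N) (t : F) :
    ruU N F * Matrix.transvection (rix N 0) (rix N N) t
      = Matrix.transvection (rix N 0) (rix N N) t * ruU N F := by
  ext a b
  have ha := a.2
  have hb := b.2
  have e0 : (rix N 0).val = 0 := by rw [rix_val]; omega
  have e1 : (rix N 1).val = 1 := by rw [rix_val]; omega
  have e2 : (rix N 2).val = 2 := by rw [rix_val]; omega
  have eN : (rix N N).val = N := by rw [rix_val]; omega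
  simp only [tv_mul_entry_fin, mul_tv_entry_fin, ruU_apply]
  split_ifs <;> first | ring1 | omega

theorem ruV_i3 (hN : 2 ≤ N) (l t : F) :
    ruV N l * Matrix.transvection (rix N 0) (rix N N) t
      = Matrix.transvection (rix N 0) (rix N N) t * ruV N l := by
  ext a b
  have ha := a.2
  have hb := b.2
  have e0 : (rix N 0).val = 0 := by rw [rix_val]; omega
  have e1 : (rix N 1).val = 1 := by rw [rix_val]; omega
  have e2 : (rix N 2).val = 2 := by rw [rix_val]; omega
  have eN : (rix N N).val = N := by rw [rix_val]; omega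
  simp only [tv_mul_entry_fin, mul_tv_entry_fin, ruV_apply]
  split_ifs <;> first | ring1 | omega

theorem ruV_row0 (l : F) (b : Fin (N + 1)) :
    ruV N l (rix N 0) b = if b.val = 0 then 1 else 0 := by
  have hb := b.2
  have e0 : (rix N 0).val = 0 := by rw [rix_val]; omega
  rw [ruV_apply]
  split_ifs <;> first | rfl | omega

theorem ruV_coldiff {j : ℕ} (hj : 1 ≤ j) (hjN : j + 1 ≤ N) (l : F) (a : Fin (N + 1)) :
    ruV N l a (rix N (j + 1))
      = (if j = 1 then l else 1) * ruV N l a (rix N j) + if a.val = j + 1 then 1 else 0 := by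
  have ha := a.2
  have ej : (rix N j).val = j := by rw [rix_val]; omega
  have ej' : (rix N (j + 1)).val = j + 1 := by rw [rix_val]; omega
  rw [ruV_apply, ruV_apply]
  split_ifs <;> first | ring1 | omega

theorem ruV_i5 {j : ℕ} (hj : 1 ≤ j) (hjN : j + 1 ≤ N) (l t : F) :
    Matrix.transvection (rix N (j + 1)) (rix N 0) t * ruV N l
      = ruV N l * Matrix.transvection (rix N (j + 1)) (rix N 0) t
        * Matrix.transvection (rix N j) (rix N 0) (-(t * if j = 1 then l else 1)) := by
  ext a b
  have ha := a.2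
  have hb := b.2
  have e0 : (rix N 0).val = 0 := by rw [rix_val]; omega
  have ej : (rix N j).val = j := by rw [rix_val]; omega
  have ej' : (rix N (j + 1)).val = j + 1 := by rw [rix_val]; omega
  simp only [tv_mul_entry_fin, mul_tv_entry_fin]
  rw [ruV_row0, ruV_coldiff hj hjN]
  split_ifs <;> first | ring1 | omega

theorem ruU_i6 (hN : 2 ≤ N) (t : F) :
    ruU N F * Matrix.transvection (rix N 1) (rix N N) t
      = Matrix.transvection (rix N 1) (rix N N) t
        * (Matrix.transvection (rix N 0) (rix N N) t * ruU N F) := by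
  ext a b
  have ha := a.2
  have hb := b.2
  have e0 : (rix N 0).val = 0 := by rw [rix_val]; omega
  have e1 : (rix N 1).val = 1 := by rw [rix_val]; omega
  have e2 : (rix N 2).val = 2 := by rw [rix_val]; omega
  have eN : (rix N N).val = N := by rw [rix_val]; omega
  simp only [tv_mul_entry_fin, mul_tv_entry_fin, ruU_apply]
  split_ifs <;> first | ring1 | omega

theorem ruU_i7 (hN : 2 ≤ N) :
    Matrix.transvection (rix N 1) (rix N 0) (-1 : F) * ruU N F
        * Matrix.transvection (rix N 1) (rix N 0) (-1 : F)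
      = Matrix.transvection (rix N 0) (rix N 1) (1 : F)
        * (Matrix.transvection (rix N 1) (rix N 0) (-1 : F) * ruU N F) := by
  ext a b
  have ha := a.2
  have hb := b.2
  have e0 : (rix N 0).val = 0 := by rw [rix_val]; omega
  have e1 : (rix N 1).val = 1 := by rw [rix_val]; omega
  have e2 : (rix N 2).val = 2 := by rw [rix_val]; omega
  have eN : (rix N N).val = N := by rw [rix_val]; omega
  simp only [tv_mul_entry_fin, mul_tv_entry_fin, ruU_apply]
  split_ifs <;> first | ring1 | omega

theorem ruD_of_zero (l m : F) {x : Fin (N + 1)} (h : x.val = 0) : ruD N l m x = l := by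
  unfold ruD
  rw [if_pos h]

theorem ruD_of_last (l m : F) {x : Fin (N + 1)} (h0 : x.val ≠ 0) (h : x.val = N) :
    ruD N l m x = m := by
  unfold ruD
  rw [if_neg h0, if_pos h]

theorem ruD_of_mid (l m : F) {x : Fin (N + 1)} (h0 : x.val ≠ 0) (h : x.val ≠ N) :
    ruD N l m x = 1 := by
  unfold ruD
  rw [if_neg h0, if_neg h]

theorem ruU_of_le {a b : Fin (N + 1)} (h : a.val ≤ b.val) : ruU N F a b = 1 := by
  rw [ruU_apply, if_pos h]

theorem ruU_of_gt {a b : Fin (N + 1)} (h : b.val < a.val) : ruU N F a b = 0 := by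
  rw [ruU_apply, if_neg (by omega)]

theorem ruV_of_eq (l : F) {a b : Fin (N + 1)} (h : a.val = b.val) : ruV N l a b = 1 := by
  rw [ruV_apply, if_pos h]

theorem ruV_of_one (l : F) {a b : Fin (N + 1)} (h1 : a.val = 1) (h : a.val < b.val) :
    ruV N l a b = l := by
  rw [ruV_apply, if_neg (by omega), if_pos ⟨by omega, h⟩, if_pos h1]

theorem ruV_of_lt (l : F) {a b : Fin (N + 1)} (h1 : 2 ≤ a.val) (h : a.val < b.val) :
    ruV N l a b = 1 := by
  rw [ruV_apply, if_neg (by omega), if_pos ⟨by omega, h⟩, if_neg (by omega)]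

theorem ruV_of_zero (l : F) {a b : Fin (N + 1)} (h0 : a.val = 0) (h : a.val ≠ b.val) :
    ruV N l a b = 0 := by
  rw [ruV_apply, if_neg h, if_neg (by omega)]

theorem ruV_of_gt (l : F) {a b : Fin (N + 1)} (h : b.val < a.val) : ruV N l a b = 0 := by
  rw [ruV_apply, if_neg (by omega), if_neg (by omega)]

theorem ruG_mul_ruU (hN : 2 ≤ N) (l m μ : F) (hm : m * μ = 1) :
    ruG N l m * ruU N F
      = ruV N l * Matrix.transvection (rix N N) (rix N 0) μ * ruG N l m := by
  ext a b
  have ha := a.2
  have hb := b.2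
  have e0 : (rix N 0).val = 0 := by rw [rix_val]; omega
  have eN : (rix N N).val = N := by rw [rix_val]; omega
  rw [ruG_mul_entry, mul_ruG_entry, mul_tv_entry_fin]
  by_cases ha0 : a.val = 0
  · have hp : (rpred a).val = N := by
      unfold rpred
      rw [if_pos ha0, rix_val]
      omega
    by_cases hbN : b.val = N
    · have hq : (rsucc b).val = 0 := by
        unfold rsucc
        rw [if_pos hbN, rix_val]
        omega
      rw [ruD_of_last l m (by omega) hp, ruU_of_le (by omega), ruV_of_eq l (by omega),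
        if_pos (by omega), ruV_of_zero l ha0 (by omega), ruD_of_last l m (by omega) hbN]
      ring
    · have hq : (rsucc b).val = b.val + 1 := by
        unfold rsucc
        rw [if_neg hbN, rix_val]
        omega
      rw [ruU_of_gt (by omega), ruV_of_zero l ha0 (by omega), if_neg (by omega)]
      ring
  · have hp : (rpred a).val = a.val - 1 := by
      unfold rpred
      rw [if_neg ha0, rix_val]
      omega
    by_cases hbN : b.val = N
    · have hq : (rsucc b).val = 0 := by
        unfold rsucc
        rw [if_pos hbN, rix_val]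
        omega
      rw [ruU_of_le (by omega), ruV_of_gt l (by omega), if_pos (by omega),
        ruD_of_last l m (by omega) hbN]
      by_cases ha1 : a.val = 1
      · rw [ruD_of_zero l m (by omega), ruV_of_one l ha1 (by omega)]
        linear_combination (-l) * hm
      · by_cases haN : a.val = N
        · rw [ruD_of_mid l m (by omega) (by omega), ruV_of_eq l (by omega)]
          linear_combination (-1 : F) * hm
        · rw [ruD_of_mid l m (by omega) (by omega), ruV_of_lt l (by omega) (by omega)]
          linear_combination (-1 : F) * hm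
    · have hq : (rsucc b).val = b.val + 1 := by
        unfold rsucc
        rw [if_neg hbN, rix_val]
        omega
      rw [if_neg (by omega), add_zero]
      by_cases hab : a.val = b.val + 1
      · have e : rpred a = b := Fin.ext (by omega)
        rw [e, ruU_of_le (le_refl _), ruV_of_eq l (by omega)]
        ring
      · by_cases hab2 : a.val ≤ b.val
        · rw [ruU_of_le (by omega), ruD_of_mid l m (x := b) (by omega) hbN]
          by_cases ha1 : a.val = 1
          · rw [ruD_of_zero l m (by omega), ruV_of_one l ha1 (by omega)]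
          · rw [ruD_of_mid l m (by omega) (by omega), ruV_of_lt l (by omega) (by omega)]
        · rw [ruU_of_gt (by omega), ruV_of_gt l (by omega)]
          ring

/-! ### Determinants -/

theorem ruU_det : (ruU N F).det = 1 := by
  rw [Matrix.det_of_isUpperTriangular]
  · simp [ruU_apply]
  · intro i j hij
    have : j.val < i.val := hij
    rw [ruU_apply, if_neg (by omega)]

theorem ruV_det (l : F) : (ruV N l).det = 1 := by
  rw [Matrix.det_of_isUpperTriangular]
  · simp [ruV_apply]
  · intro i j hij
    have : j.val < i.val := hij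
    rw [ruV_apply, if_neg (by omega), if_neg (by omega)]

theorem ruG_det (hN : 1 ≤ N) (l m : F) : (ruG N l m).det = (-1) ^ N * m * l := by
  rw [Matrix.det_succ_row_zero, Finset.sum_eq_single (Fin.last N)]
  · have h1 : ruG N l m 0 (Fin.last N) = m := by
      have hN0 : N ≠ 0 := by omega
      simp [ruG_apply, ruD, hN0]
    have h2 : (ruG N l m).submatrix Fin.succ (Fin.last N).succAbove
        = Matrix.diagonal (fun b : Fin N => if b.val = 0 then l else 1) := by
      ext a b
      have hb := b.2
      rw [Fin.succAbove_last, Matrix.submatrix_apply, ruG_apply, ruD, Matrix.diagonal_apply]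
      simp only [Fin.val_succ, Fin.val_castSucc, Fin.ext_iff]
      split_ifs <;> first | rfl | omega
    have h3 : (∏ b : Fin N, if b.val = 0 then l else (1 : F)) = l := by
      obtain ⟨M, rfl⟩ : ∃ M, N = M + 1 := ⟨N - 1, by omega⟩
      rw [Fin.prod_univ_succ]
      simp
    rw [h1, h2, Matrix.det_diagonal, h3, Fin.val_last]
  · intro j _ hj
    have hj2 : j.val ≠ N := fun h => hj (Fin.ext (by rw [h, Fin.val_last]))
    have : ruG N l m 0 j = 0 := by
      rw [ruG_apply]
      simp only [Fin.val_zero]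
      rw [if_neg (by omega), if_neg (fun h => hj2 h.2)]
    rw [this, mul_zero, zero_mul]
  · intro h
    exact absurd (Finset.mem_univ _) h

/-! ### Regularity of `ruU` -/

theorem ruU_sub_one_apply (a b : Fin (N + 1)) :
    (ruU N F - 1) a b = if a.val < b.val then 1 else 0 := by
  rw [Matrix.sub_apply, ruU_apply, Matrix.one_apply]
  simp only [Fin.ext_iff]
  split_ifs <;> first | ring1 | omega

theorem ruU_pow_zero (k : ℕ) (a b : Fin (N + 1)) (h : b.val < a.val + k) :
    ((ruU N F - 1) ^ k) a b = 0 := by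
  induction k generalizing b with
  | zero =>
    rw [pow_zero, Matrix.one_apply_ne]
    intro e
    rw [e] at h
    omega
  | succ k ih =>
    rw [pow_succ, Matrix.mul_apply]
    apply Finset.sum_eq_zero
    intro c _
    by_cases hc : c.val < a.val + k
    · rw [ih c hc, zero_mul]
    · rw [ruU_sub_one_apply, if_neg (by omega), mul_zero]

theorem ruU_pow_one (k : ℕ) (a b : Fin (N + 1)) (h : b.val = a.val + k) :
    ((ruU N F - 1) ^ k) a b = 1 := by
  induction k generalizing b with
  | zero =>
    have : a = b := Fin.ext (by omega)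
    rw [pow_zero, this, Matrix.one_apply_eq]
  | succ k ih =>
    have hb := b.2
    rw [pow_succ, Matrix.mul_apply, Finset.sum_eq_single (rix N (a.val + k))]
    · rw [ih _ (by rw [rix_val]; omega), ruU_sub_one_apply, if_pos (by rw [rix_val]; omega), mul_one]
    · intro c _ hc
      have hc2 : c.val ≠ a.val + k := by
        intro e
        apply hc
        apply Fin.ext
        rw [rix_val]
        omega
      by_cases hc3 : c.val < a.val + k
      · rw [ruU_pow_zero k a c hc3, zero_mul]
      · rw [ruU_sub_one_apply, if_neg (by omega), mul_zero]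
    · intro h'
      exact absurd (Finset.mem_univ _) h'

theorem ruU_regular : IsNilpotent (ruU N F - 1) ∧ (ruU N F - 1) ^ N ≠ 0 := by
  refine ⟨⟨N + 1, ?_⟩, ?_⟩
  · ext a b
    have hb := b.2
    rw [ruU_pow_zero (N + 1) a b (by omega)]
    rfl
  · intro h
    have h1 := ruU_pow_one (F := F) N (rix N 0) (rix N N) (by simp [rix_val])
    rw [h] at h1
    exact zero_ne_one h1

/-! ### The generation argument -/

theorem regUnip3_core [Fintype F] (hN : 2 ≤ N) (r : F) (hr0 : r ≠ 0)
    (hgen : ∀ a : F, a ≠ 0 → ∃ j : ℕ, a = r ^ j)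
    (H : Subgroup (Matrix.SpecialLinearGroup (Fin (N + 1)) F))
    (u v g z : Matrix.SpecialLinearGroup (Fin (N + 1)) F)
    (hu1 : u.1 = ruU N F) (hv1 : v.1 = ruV N ((-1) ^ (N + 1) * r))
    (hg1 : g.1 = Matrix.transvection (rix N 0) (rix N 1) (-r⁻¹))
    (hz1 : z.1 = Matrix.transvection (rix N N) (rix N 0) (-r))
    (hu : u ∈ H) (hu' : g * u * g⁻¹ ∈ H) (hc : v * z ∈ H) : H = ⊤ := by
  have h01 : rix N 0 ≠ rix N 1 := rix_ne (by omega)
  have h10 : rix N 1 ≠ rix N 0 := h01.symm
  have h02 : rix N 0 ≠ rix N 2 := rix_ne (by omega)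
  have h0N : rix N 0 ≠ rix N N := rix_ne (by omega)
  have hN0 : rix N N ≠ rix N 0 := h0N.symm
  have h1N : rix N 1 ≠ rix N N := rix_ne (by omega)
  have hN1 : rix N N ≠ rix N 1 := h1N.symm
  obtain ⟨s, hs⟩ : ∃ s : F, s = r⁻¹ := ⟨_, rfl⟩
  have hs0 : s ≠ 0 := by rw [hs]; exact inv_ne_zero hr0
  have hsr : s * (-r) = -1 := by rw [hs]; field_simp
  have hmr0 : (-r) ≠ 0 := neg_ne_zero.2 hr0
  rw [← hs] at hg1
  -- Step A: `T_{02}(-s) ∈ H`
  have hA : TvAt H (rix N 0) (rix N 2) (-s) := by
    apply tvAt_of_mem' h02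
    have e : g * u = Matrix.SpecialLinearGroup.transvection h02 (-s) * u * g :=
      Subtype.ext (by
        show g.1 * u.1 = Matrix.transvection _ _ _ * u.1 * g.1
        rw [hg1, hu1]
        exact ruU_i1 hN (-s))
    have e2 : Matrix.SpecialLinearGroup.transvection h02 (-s) = g * u * g⁻¹ * u⁻¹ := by
      rw [e, mul_inv_cancel_right, mul_inv_cancel_right]
    rw [e2]
    exact mul_mem hu' (inv_mem hu)
  have hA' : TvAt H (rix N 0) (rix N 2) s := by
    have := hA.neg h02
    rwa [neg_neg] at this
  -- Step B: `T_{0j}(s) ∈ H` for `2 ≤ j ≤ N`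
  have hB : ∀ j, 2 ≤ j → j ≤ N → TvAt H (rix N 0) (rix N j) s := by
    intro j hj
    induction j, hj using Nat.le_induction with
    | base => intro _; exact hA'
    | succ j hj ih =>
      intro hjN
      have h1 := ih (by omega)
      have h0j : rix N 0 ≠ rix N j := rix_ne (by omega)
      have h0j' : rix N 0 ≠ rix N (j + 1) := rix_ne (by omega)
      have h2 : TvAt H (rix N 0) (rix N (j + 1)) (-s) :=
        TvAt.conj_split h0j h0j' u hu (by rw [hu1]; exact ruU_i2 hj hjN s) h1
      have := h2.neg h0j'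
      rwa [neg_neg] at this
  -- Step C: the braid relation gives `z ∈ H`, hence `v ∈ H`
  have hx : TvAt H (rix N 0) (rix N N) s := hB N hN le_rfl
  obtain ⟨x, hxdef⟩ : ∃ x : Matrix.SpecialLinearGroup (Fin (N + 1)) F,
      x = Matrix.SpecialLinearGroup.transvection h0N s := ⟨_, rfl⟩
  have hxH : x ∈ H := by rw [hxdef]; exact hx.mem h0N
  have cu : Commute u x := by
    apply Subtype.ext
    show u.1 * x.1 = x.1 * u.1
    rw [hxdef, hu1]
    exact ruU_i2N hN s
  have cg : Commute g x := by
    apply Subtype.ext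
    show g.1 * x.1 = x.1 * g.1
    rw [hxdef, hg1]
    exact tv_comm_row h01 h0N _ _
  have cv : Commute v x := by
    apply Subtype.ext
    show v.1 * x.1 = x.1 * v.1
    rw [hxdef, hv1]
    exact ruV_i3 hN _ s
  have hzx : z⁻¹ * x * z ∈ H := by
    have hm : (v * z)⁻¹ * (g * u * g⁻¹) ∈ H := mul_mem (inv_mem hc) hu'
    have h1 := mul_mem (mul_mem hm hxH) (inv_mem hm)
    have c1 : Commute (g * u * g⁻¹) x := (cg.mul_left cu).mul_left cg.inv_left
    have e1 : g * u * g⁻¹ * x * (g * u * g⁻¹)⁻¹ = x := by
      rw [c1.eq, mul_inv_cancel_right]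
    have e2 : v⁻¹ * x * v = x := by
      rw [mul_assoc, ← cv.eq, inv_mul_cancel_left]
    have e : (v * z)⁻¹ * (g * u * g⁻¹) * x * ((v * z)⁻¹ * (g * u * g⁻¹))⁻¹ = z⁻¹ * x * z := by
      calc (v * z)⁻¹ * (g * u * g⁻¹) * x * ((v * z)⁻¹ * (g * u * g⁻¹))⁻¹
          = (v * z)⁻¹ * (g * u * g⁻¹ * x * (g * u * g⁻¹)⁻¹) * (v * z) := by group
        _ = z⁻¹ * (v⁻¹ * x * v) * z := by rw [e1]; group
        _ = z⁻¹ * x * z := by rw [e2]
    rw [e] at h1
    exact h1
  have hz : z = Matrix.SpecialLinearGroup.transvection hN0 (-r) := Subtype.ext hz1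
  have hzH : TvAt H (rix N N) (rix N 0) (-r) := by
    apply tv_braid_mem h0N s (-r) hsr hx
    rw [← hz, ← hxdef]
    exact hzx
  have hzmem : z ∈ H := hzH z hz1
  have hvH : v ∈ H := by
    have := mul_mem hc (inv_mem hzmem)
    rwa [mul_inv_cancel_right] at this
  -- Step D: `T_{j0}(-r) ∈ H` for `2 ≤ j ≤ N`, and `T_{10}(κ) ∈ H`
  have hD : ∀ d j, j + d = N → 2 ≤ j → TvAt H (rix N j) (rix N 0) (-r) := by
    intro d
    induction d with
    | zero =>
      intro j hj _
      have : j = N := by omega
      rw [this]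
      exact hzH
    | succ d ih =>
      intro j hj h2
      have h1 := ih (j + 1) (by omega) (by omega)
      have hj0 : rix N (j + 1) ≠ rix N 0 := rix_ne (by omega)
      have hj0' : rix N j ≠ rix N 0 := rix_ne (by omega)
      have h3 := TvAt.conj_split' hj0 hj0' v hvH
        (by rw [hv1]; exact ruV_i5 (by omega) (by omega) _ (-r)) h1
      rw [if_neg (by omega), mul_one, neg_neg] at h3
      exact h3.neg hj0'
  obtain ⟨κ, hκ⟩ : ∃ κ : F, κ = -(-r * ((-1) ^ (N + 1) * r)) := ⟨_, rfl⟩
  have hκ0 : κ ≠ 0 := by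
    rw [hκ]
    exact neg_ne_zero.2 (mul_ne_zero hmr0
      (mul_ne_zero (pow_ne_zero _ (neg_ne_zero.2 one_ne_zero)) hr0))
  have hD1 : TvAt H (rix N 1) (rix N 0) κ := by
    have h1 := hD (N - 2) 2 (by omega) le_rfl
    have h20 : rix N (1 + 1) ≠ rix N 0 := rix_ne (by omega)
    have h3 := TvAt.conj_split' h20 h10 v hvH
      (by rw [hv1]; exact ruV_i5 le_rfl (by omega) _ (-r)) h1
    rw [if_pos rfl] at h3
    rw [hκ]
    exact h3
  -- Step E: fullness
  have hE1 : ∀ t, TvAt H (rix N 1) (rix N N) t → TvAt H (rix N 0) (rix N N) t := fun t ht =>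
    TvAt.conj_split h1N h0N u hu (by rw [hu1]; exact ruU_i6 hN t) ht
  have hE2 : ∀ a, TvAt H (rix N 0) (rix N N) a → TvAt H (rix N 0) (rix N N) (κ * a) :=
    fun a ha => hE1 _ (TvAt.comp h10 h0N h1N hD1 ha)
  have hF0N : TvFull H (rix N 0) (rix N N) := by
    apply ff_full_of_sq_closed (fun t => TvAt H (rix N 0) (rix N N) t) r hgen
      (fun a b => TvAt.add h0N) (TvAt.zero _ _ _) s hs0 hx
    intro a ha
    rcases neg_one_pow_eq_or F (N + 1) with h | h
    · have h1 := hE2 a ha
      have e : κ * a = r ^ 2 * a := by rw [hκ, h]; ring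
      rw [e] at h1
      exact h1
    · have h1 := (hE2 a ha).neg h0N
      have e : -(κ * a) = r ^ 2 * a := by rw [hκ, h]; ring
      rw [e] at h1
      exact h1
  have hF1N : TvFull H (rix N 1) (rix N N) := TvFull.comp_right h10 h0N h1N hκ0 hD1 hF0N
  have hF10 : TvFull H (rix N 1) (rix N 0) := TvFull.comp_left h1N hN0 h10 hmr0 hF1N hzH
  have h01one : TvAt H (rix N 0) (rix N 1) 1 := by
    apply tvAt_of_mem' h01
    obtain ⟨y, hy⟩ : ∃ y : Matrix.SpecialLinearGroup (Fin (N + 1)) F,
      y = Matrix.SpecialLinearGroup.transvection h10 (-1 : F) := ⟨_, rfl⟩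
    have hyH : y ∈ H := by rw [hy]; exact (hF10 (-1)).mem h10
    have e : y * u * y = Matrix.SpecialLinearGroup.transvection h01 1 * (y * u) :=
      Subtype.ext (by
        show y.1 * u.1 * y.1 = Matrix.transvection _ _ _ * (y.1 * u.1)
        rw [hy, hu1]
        exact ruU_i7 hN)
    have e2 : Matrix.SpecialLinearGroup.transvection h01 (1 : F) = y * u * y * (y * u)⁻¹ := by
      rw [e, mul_inv_cancel_right]
    rw [e2]
    exact mul_mem (mul_mem (mul_mem hyH hu) hyH) (inv_mem (mul_mem hyH hu))
  have hN1μ : TvAt H (rix N N) (rix N 1) (-r) := by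
    have := TvAt.comp hN0 h01 hN1 hzH h01one
    rwa [mul_one] at this
  have hF01 : TvFull H (rix N 0) (rix N 1) := TvFull.comp_left h0N hN1 h01 hmr0 hF0N hN1μ
  have hF1j : ∀ j, 2 ≤ j → j ≤ N → TvFull H (rix N 1) (rix N j) := fun j h2 hj =>
    TvFull.comp_left h10 (rix_ne (by omega)) (rix_ne (by omega)) hs0 hF10 (hB j h2 hj)
  have hF0j : ∀ j, 2 ≤ j → j ≤ N → TvFull H (rix N 0) (rix N j) := fun j h2 hj =>
    TvFull.comp h01 (rix_ne (by omega)) (rix_ne (by omega)) hF01 (hF1j j h2 hj)
  have hFj1 : ∀ j, 2 ≤ j → j ≤ N → TvFull H (rix N j) (rix N 1) := fun j h2 hj =>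
    TvFull.comp_right (rix_ne (by omega)) h01 (rix_ne (by omega)) hmr0
      (hD (N - j) j (by omega) h2) hF01
  have hFj0 : ∀ j, 2 ≤ j → j ≤ N → TvFull H (rix N j) (rix N 0) := fun j h2 hj =>
    TvFull.comp (rix_ne (by omega)) h10 (rix_ne (by omega)) (hFj1 j h2 hj) hF10
  have hrow : ∀ b : Fin (N + 1), b ≠ rix N 0 → TvFull H (rix N 0) b := by
    intro b hb
    have hb2 := b.2
    have hb0 : b.val ≠ 0 := by
      intro h
      apply hb
      apply Fin.ext
      rw [rix_val, h]
      omega
    rw [← rix_self b]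
    by_cases h1 : b.val = 1
    · rw [h1]
      exact hF01
    · exact hF0j b.val (by omega) (by omega)
  have hcol : ∀ a : Fin (N + 1), a ≠ rix N 0 → TvFull H a (rix N 0) := by
    intro a ha
    have ha2 := a.2
    have ha0 : a.val ≠ 0 := by
      intro h
      apply ha
      apply Fin.ext
      rw [rix_val, h]
      omega
    rw [← rix_self a]
    by_cases h1 : a.val = 1
    · rw [h1]
      exact hF10
    · exact hFj0 a.val (by omega) (by omega)
  have : Nontrivial (Fin (N + 1)) := Fin.nontrivial_iff_two_le.2 (by omega)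
  apply sl_top_of_tvFull
  intro i j hij
  by_cases hi : i = rix N 0
  · rw [hi]
    exact hrow j (fun h => hij (hi.trans h.symm))
  · by_cases hj : j = rix N 0
    · rw [hj]
      exact hcol i hi
    · exact TvFull.comp hi (Ne.symm hj) hij (hcol i hi) (hrow j hj)

/-- `SL_{N+1}(F)`, `N ≥ 2`, `F` a finite field, is generated by three conjugate regular
unipotent elements. -/
theorem regUnip3_exists [Fintype F] (N : ℕ) (hN : 2 ≤ N) :
    ∃ u g h : Matrix.SpecialLinearGroup (Fin (N + 1)) F,
      (IsNilpotent ((u : Matrix (Fin (N + 1)) (Fin (N + 1)) F) - 1) ∧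
        ((u : Matrix (Fin (N + 1)) (Fin (N + 1)) F) - 1) ^ N ≠ 0) ∧
      Subgroup.closure ({u, g * u * g⁻¹, h * u * h⁻¹} :
        Set (Matrix.SpecialLinearGroup (Fin (N + 1)) F)) = ⊤ := by
  obtain ⟨r, hr0, hgen⟩ := ff_exists_gen (F := F)
  have h01 : rix N 0 ≠ rix N 1 := rix_ne (by omega)
  have hN0 : rix N N ≠ rix N 0 := rix_ne (by omega)
  obtain ⟨u, hu1⟩ : ∃ u : Matrix.SpecialLinearGroup (Fin (N + 1)) F, u.1 = ruU N F :=
    ⟨⟨_, ruU_det⟩, rfl⟩
  obtain ⟨v, hv1⟩ : ∃ v : Matrix.SpecialLinearGroup (Fin (N + 1)) F,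
      v.1 = ruV N ((-1) ^ (N + 1) * r) := ⟨⟨_, ruV_det _⟩, rfl⟩
  have hdet : (ruG N ((-1) ^ (N + 1) * r) (-r⁻¹)).det = 1 := by
    rw [ruG_det (by omega)]
    have h1 : ((-1 : F) ^ N) * (-1) ^ N = 1 := by
      rw [← mul_pow]
      simp
    rw [pow_succ]
    field_simp
    linear_combination h1
  obtain ⟨w, hw1⟩ : ∃ w : Matrix.SpecialLinearGroup (Fin (N + 1)) F,
      w.1 = ruG N ((-1) ^ (N + 1) * r) (-r⁻¹) := ⟨⟨_, hdet⟩, rfl⟩
  obtain ⟨g, hg1⟩ : ∃ g : Matrix.SpecialLinearGroup (Fin (N + 1)) F,
      g.1 = Matrix.transvection (rix N 0) (rix N 1) (-r⁻¹) :=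
    ⟨Matrix.SpecialLinearGroup.transvection h01 (-r⁻¹), rfl⟩
  obtain ⟨z, hz1⟩ : ∃ z : Matrix.SpecialLinearGroup (Fin (N + 1)) F,
      z.1 = Matrix.transvection (rix N N) (rix N 0) (-r) :=
    ⟨Matrix.SpecialLinearGroup.transvection hN0 (-r), rfl⟩
  refine ⟨u, g, w, ?_, ?_⟩
  · rw [hu1]
    exact ruU_regular
  · have ec : w * u * w⁻¹ = v * z := by
      apply sl_conj_eq_of
      show w.1 * u.1 = v.1 * z.1 * w.1
      rw [hw1, hu1, hv1, hz1]
      exact ruG_mul_ruU hN _ _ _ (by field_simp)
    apply regUnip3_core hN r hr0 hgen _ u v g z hu1 hv1 hg1 hz1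
    · exact Subgroup.subset_closure (by simp)
    · exact Subgroup.subset_closure (by simp)
    · rw [← ec]
      exact Subgroup.subset_closure (by simp)

end regunip

end Cfsg.Agent.Helper13
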