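import Mathlib
import Cfsg.Prelude.Def_GeometricClasses
import Cfsg.Prelude.Def_Classical
import Cfsg.Agent.Helper35.S88Defs
import Cfsg.Agent.Helper98.ELPMain
import Cfsg.Agent.Helper46.ELPFIX
import Cfsg.Agent.Helper18.ELPSIEGISO
import Cfsg.Agent.Helper36.AltEven
import Cfsg.Agent.Helper43.Spinor2

set_option autoImplicit false
set_option linter.unusedSectionVars false
set_option linter.unusedVariables false

/-!
# CALL S90 (row S5990, top architect helper98), stage T2B (`r = p = 2`, `⟹`) - helper13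

`d` odd, `m ≡ 0 (4)`: the element `x = (Siegel element of the hyperbolic part) ⊕ 1` of
`Ω⁻_{2d}(q)`, `q` even, has `x ^ 2 = 1`, is not scalar, and every `x`-invariant nondegenerate
subspace of dimension `≡ 0 (4)` is of plus type.
-/

namespace Cfsg.Agent.Helper13.S90

open Module Matrix Cfsg Cfsg.Geo Cfsg.Agent.Helper35.S88 Cfsg.Agent.Helper98.ELP
open scoped MatrixGroups

section emb

variable {n : Type} [Fintype n] [DecidableEq n] {F : Type*} [Field F]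

/-- the block embedding `g ↦ g ⊕ 1`. -/
def embM (g : Matrix (n ⊕ n) (n ⊕ n) F) : Matrix ((n ⊕ n) ⊕ Fin 2) ((n ⊕ n) ⊕ Fin 2) F :=
  Matrix.fromBlocks g 0 0 1

theorem embM_mul (g h : Matrix (n ⊕ n) (n ⊕ n) F) : embM g * embM h = embM (g * h) := by
  simp only [embM, Matrix.fromBlocks_multiply, Matrix.mul_zero, Matrix.zero_mul, add_zero,
    zero_add, Matrix.mul_one]

theorem embM_one : embM (1 : Matrix (n ⊕ n) (n ⊕ n) F) = 1 := by
  simp [embM, Matrix.fromBlocks_one]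

/-- the block embedding of general linear groups. -/
def emb : GL (n ⊕ n) F →* GL ((n ⊕ n) ⊕ Fin 2) F where
  toFun g := ⟨embM (g : Matrix (n ⊕ n) (n ⊕ n) F),
    embM ((g⁻¹ : GL (n ⊕ n) F) : Matrix (n ⊕ n) (n ⊕ n) F),
    by rw [embM_mul, ← Units.val_mul, mul_inv_cancel, Units.val_one, embM_one],
    by rw [embM_mul, ← Units.val_mul, inv_mul_cancel, Units.val_one, embM_one]⟩
  map_one' := Units.ext (by
    show embM ((1 : GL (n ⊕ n) F) : Matrix (n ⊕ n) (n ⊕ n) F) = 1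
    rw [Units.val_one, embM_one])
  map_mul' g h := Units.ext (by
    show embM ((g * h : GL (n ⊕ n) F) : Matrix (n ⊕ n) (n ⊕ n) F) =
      embM (g : Matrix (n ⊕ n) (n ⊕ n) F) * embM (h : Matrix (n ⊕ n) (n ⊕ n) F)
    rw [embM_mul, Units.val_mul])

theorem emb_coe (g : GL (n ⊕ n) F) :
    ((emb g : GL ((n ⊕ n) ⊕ Fin 2) F) : Matrix ((n ⊕ n) ⊕ Fin 2) ((n ⊕ n) ⊕ Fin 2) F) =
      embM (g : Matrix (n ⊕ n) (n ⊕ n) F) := rfl

theorem embM_mulVec (g : Matrix (n ⊕ n) (n ⊕ n) F) (v : (n ⊕ n) ⊕ Fin 2 → F) :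
    embM g *ᵥ v = Sum.elim (g *ᵥ (v ∘ Sum.inl)) (v ∘ Sum.inr) := by
  have hv : v = Sum.elim (v ∘ Sum.inl) (v ∘ Sum.inr) := by
    funext x
    cases x <;> rfl
  conv_lhs => rw [hv]
  rw [embM, Matrix.fromBlocks_mulVec]
  simp only [Matrix.zero_mulVec, add_zero, zero_add, Matrix.one_mulVec, Sum.elim_comp_inl,
    Sum.elim_comp_inr]

end emb

section minus

variable {F : Type*} [Field F]

theorem qm_eq (k : ℕ) (a b : F) (v : (Fin k ⊕ Fin k) ⊕ Fin 2 → F) :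
    Cfsg.quadFormMinus k F a b v = qp (Fin k) F (v ∘ Sum.inl) +
      (v (.inr 0) ^ 2 + a * v (.inr 0) * v (.inr 1) + b * v (.inr 1) ^ 2) := rfl

theorem emb_mem_iso (k : ℕ) (a b : F) (g : GL (Fin k ⊕ Fin k) F)
    (hg : g ∈ Cfsg.isometryGroup F (qp (Fin k) F)) :
    emb g ∈ Cfsg.isometryGroup F (Cfsg.quadFormMinus k F a b) := by
  intro u _
  show Cfsg.quadFormMinus k F a b (embM (g : Matrix (Fin k ⊕ Fin k) (Fin k ⊕ Fin k) F) *ᵥ u) =
    Cfsg.quadFormMinus k F a b u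
  have h2 : qp (Fin k) F ((g : Matrix (Fin k ⊕ Fin k) (Fin k ⊕ Fin k) F) *ᵥ (u ∘ Sum.inl)) =
      qp (Fin k) F (u ∘ Sum.inl) := hg (u ∘ Sum.inl) (u ∘ Sum.inl)
  rw [qm_eq, qm_eq, embM_mulVec, Sum.elim_comp_inl, h2]
  rfl

theorem emb_mem_omega (k : ℕ) (a b : F) (g : GL (Fin k ⊕ Fin k) F)
    (hg : g ∈ Cfsg.Geo.omegaGL (qp (Fin k) F)) :
    emb g ∈ Cfsg.Geo.omegaGL (Cfsg.quadFormMinus k F a b) := by
  classical
  obtain ⟨y, hy, rfl⟩ := hg
  let ψ : ↥(Cfsg.isometryGroup F (qp (Fin k) F)) →*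
      ↥(Cfsg.isometryGroup F (Cfsg.quadFormMinus k F a b)) :=
    (emb.comp (Cfsg.isometryGroup F (qp (Fin k) F)).subtype).codRestrict _
      (fun y => emb_mem_iso k a b y y.2)
  refine ⟨ψ y, ?_, rfl⟩
  have h1 : ψ y ∈ (commutator ↥(Cfsg.isometryGroup F (qp (Fin k) F))).map ψ := ⟨y, hy, rfl⟩
  rw [commutator_def, Subgroup.map_commutator] at h1
  have h2 : (⁅(⊤ : Subgroup ↥(Cfsg.isometryGroup F (qp (Fin k) F))).map ψ,
      (⊤ : Subgroup ↥(Cfsg.isometryGroup F (qp (Fin k) F))).map ψ⁆ :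
      Subgroup ↥(Cfsg.isometryGroup F (Cfsg.quadFormMinus k F a b))) ≤ ⁅⊤, ⊤⁆ :=
    Subgroup.commutator_mono le_top le_top
  exact h2 h1

/-- the totally singular subspace `{v | v = 0 on the second halves and on the plane}`. -/
def subU' (k : ℕ) (F : Type*) [Field F] : Submodule F ((Fin k ⊕ Fin k) ⊕ Fin 2 → F) where
  carrier := {v | (∀ j : Fin k, v (.inl (.inr j)) = 0) ∧ ∀ e : Fin 2, v (.inr e) = 0}
  add_mem' := by
    intro x y hx hy
    exact ⟨fun j => by simp [hx.1 j, hy.1 j], fun e => by simp [hx.2 e, hy.2 e]⟩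
  zero_mem' := ⟨fun j => rfl, fun e => rfl⟩
  smul_mem' := by
    intro c x hx
    exact ⟨fun j => by simp [hx.1 j], fun e => by simp [hx.2 e]⟩

theorem subU'_sing (k : ℕ) (a b : F) (v : (Fin k ⊕ Fin k) ⊕ Fin 2 → F) (hv : v ∈ subU' k F) :
    Cfsg.quadFormMinus k F a b v = 0 := by
  obtain ⟨h1, h2⟩ := hv
  unfold Cfsg.quadFormMinus
  rw [h2 0, h2 1]
  have h3 : ∑ i : Fin k, v (.inl (.inl i)) * v (.inl (.inr i)) = 0 :=
    Finset.sum_eq_zero fun i _ => by rw [h1 i, mul_zero]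
  rw [h3]
  ring

theorem emb_sub_mem (k : ℕ) (T : Matrix (Fin k) (Fin k) F) (v : (Fin k ⊕ Fin k) ⊕ Fin 2 → F) :
    embM (siegM T) *ᵥ v - v ∈ subU' k F := by
  rw [embM_mulVec]
  refine ⟨fun j => ?_, fun e => ?_⟩
  · show (siegM T *ᵥ (v ∘ Sum.inl)) (.inr j) - v (.inl (.inr j)) = 0
    rw [Cfsg.Agent.Helper47.ELP.siegM_mulVec_inr]
    exact sub_self _
  · show v (.inr e) - v (.inr e) = 0
    exact sub_self _

theorem emb_fix (k : ℕ) (hk : Even k) (v : (Fin k ⊕ Fin k) ⊕ Fin 2 → F)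
    (hfix : embM (siegM (t0 k F)) *ᵥ v = v) (h0 : v (.inr 0) = 0) (h1 : v (.inr 1) = 0) :
    v ∈ subU' k F := by
  rw [embM_mulVec] at hfix
  have hfix' : siegM (t0 k F) *ᵥ (v ∘ Sum.inl) = v ∘ Sum.inl := by
    funext x
    exact congrFun hfix (Sum.inl x)
  have hker : (t0 k F - (t0 k F)ᵀ) *ᵥ (fun j => v (.inl (.inr j))) = 0 := by
    funext i
    have h3 := Cfsg.Agent.Helper47.ELP.siegM_mulVec_inl (t0 k F) (v ∘ Sum.inl) i
    rw [hfix'] at h3
    have h4 : ((t0 k F - (t0 k F)ᵀ) *ᵥ fun j => (v ∘ Sum.inl) (.inr j)) i = 0 := by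
      linear_combination -h3
    exact h4
  refine ⟨fun j => ?_, fun e => ?_⟩
  · exact Cfsg.Agent.Helper46.ELP.fix_t0_ker k (fun j => v (.inl (.inr j))) hker j (by
      obtain ⟨c, hc⟩ := hk
      have := j.2
      omega)
  · fin_cases e
    · exact h0
    · exact h1

/-- every invariant nondegenerate subspace of dimension `≡ 0 (4)` is of plus type. -/
theorem bad_plus (k : ℕ) (hk : Even k) (a b : F)
    (W : Submodule F ((Fin k ⊕ Fin k) ⊕ Fin 2 → F))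
    (hnd : IsNondegenerateOn (QuadraticMap.polar (Cfsg.quadFormMinus k F a b)) W)
    (hinv : W.map (Matrix.toLin' (embM (siegM (t0 k F)))) ≤ W) (j : ℕ)
    (hj : finrank F W = 4 * j) :
    IsPlusTypeOn (Cfsg.quadFormMinus k F a b) W := by
  classical
  obtain ⟨f, hf⟩ : ∃ f : ((Fin k ⊕ Fin k) ⊕ Fin 2 → F) →ₗ[F] ((Fin k ⊕ Fin k) ⊕ Fin 2 → F),
      f = Matrix.toLin' (embM (siegM (t0 k F))) := ⟨_, rfl⟩
  obtain ⟨N, hN⟩ : ∃ N : ((Fin k ⊕ Fin k) ⊕ Fin 2 → F) →ₗ[F] ((Fin k ⊕ Fin k) ⊕ Fin 2 → F),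
      N = f - LinearMap.id := ⟨_, rfl⟩
  rw [← hf] at hinv
  have hNv : ∀ v, N v = f v - v := fun v => by rw [hN]; rfl
  have hfv : ∀ v, f v = embM (siegM (t0 k F)) *ᵥ v := fun v => by
    rw [hf, Matrix.toLin'_apply]
  have hNU : ∀ v, N v ∈ subU' k F := by
    intro v
    rw [hNv, hfv]
    exact emb_sub_mem k _ v
  have hfW : ∀ v ∈ W, f v ∈ W := fun v hv => hinv ⟨v, hv, rfl⟩
  have hNW : ∀ v ∈ W, N v ∈ W := fun v hv => by
    rw [hNv]
    exact W.sub_mem (hfW v hv) hv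
  have hQf : ∀ v, Cfsg.quadFormMinus k F a b (f v) = Cfsg.quadFormMinus k F a b v := by
    intro v
    rw [hfv]
    exact emb_mem_iso k a b (sieg (t0 k F)) (Cfsg.Agent.Helper18.ELP.sieg_mem_iso (t0 k F)) v v
  have hpol : ∀ v, QuadraticMap.polar (Cfsg.quadFormMinus k F a b) v (N v) = 0 := by
    intro v
    unfold QuadraticMap.polar
    have h1 : v + N v = f v := by
      rw [hNv]
      abel
    rw [h1, hQf, subU'_sing k a b (N v) (hNU v)]
    ring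
  -- the bilinear form
  obtain ⟨B, hB⟩ : ∃ B : LinearMap.BilinForm F ((Fin k ⊕ Fin k) ⊕ Fin 2 → F),
      B = QuadraticMap.polarBilin (Cfsg.Agent.Helper43.minusQF k F a b) := ⟨_, rfl⟩
  have hBapp : ∀ u v, B u v = QuadraticMap.polar (Cfsg.quadFormMinus k F a b) u v := by
    intro u v
    rw [hB]
    rfl
  have hskew : ∀ u w, B u (N w) + B w (N u) = 0 := by
    intro u w
    have h1 := hpol (u + w)
    rw [← hBapp, map_add, map_add, LinearMap.add_apply, map_add, map_add, hBapp u (N u),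
      hBapp w (N w), hpol u, hpol w] at h1
    linear_combination h1
  obtain ⟨g, hg⟩ : ∃ g : ↥W →ₗ[F] ((Fin k ⊕ Fin k) ⊕ Fin 2 → F), g = N.comp W.subtype :=
    ⟨_, rfl⟩
  have hgapp : ∀ w : ↥W, g w = N (w : (Fin k ⊕ Fin k) ⊕ Fin 2 → F) := fun w => by rw [hg]; rfl
  have hrank := LinearMap.finrank_range_add_finrank_ker g
  have hr : finrank F (LinearMap.range g) ≤ finrank F ↥(W ⊓ subU' k F) := by
    apply Submodule.finrank_mono
    rintro _ ⟨w, rfl⟩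
    rw [hgapp]
    exact ⟨hNW _ w.2, hNU _⟩
  have hker : finrank F (LinearMap.ker g) = finrank F ↥(W ⊓ LinearMap.ker N) := by
    rw [hg, LinearMap.ker_comp, ← Submodule.finrank_map_subtype_eq W, Submodule.map_comap_subtype]
  have hc0 := elp_ker_codim (W ⊓ LinearMap.ker N)
    (LinearMap.proj (Sum.inr 0) : ((Fin k ⊕ Fin k) ⊕ Fin 2 → F) →ₗ[F] F)
  have hc1 := elp_ker_codim ((W ⊓ LinearMap.ker N) ⊓
    LinearMap.ker (LinearMap.proj (Sum.inr 0) : ((Fin k ⊕ Fin k) ⊕ Fin 2 → F) →ₗ[F] F))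
    (LinearMap.proj (Sum.inr 1) : ((Fin k ⊕ Fin k) ⊕ Fin 2 → F) →ₗ[F] F)
  have hle : finrank F ↥(((W ⊓ LinearMap.ker N) ⊓
      LinearMap.ker (LinearMap.proj (Sum.inr 0) : ((Fin k ⊕ Fin k) ⊕ Fin 2 → F) →ₗ[F] F)) ⊓
      LinearMap.ker (LinearMap.proj (Sum.inr 1) : ((Fin k ⊕ Fin k) ⊕ Fin 2 → F) →ₗ[F] F)) ≤
      finrank F ↥(W ⊓ subU' k F) := by
    apply Submodule.finrank_mono
    rintro v ⟨⟨⟨hvW, hvN⟩, hv0⟩, hv1⟩
    refine ⟨hvW, emb_fix k hk v ?_ hv0 hv1⟩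
    have h1 : N v = 0 := hvN
    rw [hNv, hfv] at h1
    exact sub_eq_zero.1 h1
  -- parity of the rank
  have hpar : Even (finrank F (LinearMap.range g)) := by
    obtain ⟨K', hK'⟩ := Submodule.exists_isCompl (LinearMap.ker g)
    have hdimK' : finrank F ↥K' = finrank F (LinearMap.range g) := by
      have h1 := Submodule.finrank_add_eq_of_isCompl hK'
      omega
    rw [← hdimK']
    refine Cfsg.Agent.Helper36.even_finrank_of_alt (F := F) (finrank F ↥K') ↥K'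
      (B.compl₁₂ (W.subtype.comp K'.subtype) (g.comp K'.subtype)) ?_ ?_ rfl
    · intro v
      rw [LinearMap.compl₁₂_apply]
      show B ((v : ↥W) : (Fin k ⊕ Fin k) ⊕ Fin 2 → F) (g (v : ↥W)) = 0
      rw [hgapp, hBapp]
      exact hpol _
    · intro v hv
      have hv' : ∀ w : ↥W, B ((v : ↥W) : (Fin k ⊕ Fin k) ⊕ Fin 2 → F)
          (N (w : (Fin k ⊕ Fin k) ⊕ Fin 2 → F)) = 0 := by
        intro w
        have hw : w ∈ LinearMap.ker g ⊔ K' := by
          rw [hK'.sup_eq_top]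
          exact Submodule.mem_top
        obtain ⟨w₁, hw₁, w₂, hw₂, rfl⟩ := Submodule.mem_sup.1 hw
        have h1 : N ((w₁ + w₂ : ↥W) : (Fin k ⊕ Fin k) ⊕ Fin 2 → F) = g w₂ := by
          rw [← hgapp, map_add, LinearMap.mem_ker.1 hw₁, zero_add]
        rw [h1]
        have h2 := hv ⟨w₂, hw₂⟩
        rw [LinearMap.compl₁₂_apply] at h2
        exact h2
      have hNv0 : N ((v : ↥W) : (Fin k ⊕ Fin k) ⊕ Fin 2 → F) = 0 := by
        by_contra hne
        obtain ⟨⟨x, hx, hx0⟩, -⟩ := hnd _ (hNW _ (v : ↥W).2) hne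
        apply hx0
        rw [← hBapp]
        have h3 := hskew x ((v : ↥W) : (Fin k ⊕ Fin k) ⊕ Fin 2 → F)
        have h4 := hv' ⟨x, hx⟩
        rw [h4, add_zero] at h3
        exact h3
      have hvker : (v : ↥W) ∈ LinearMap.ker g := by
        rw [LinearMap.mem_ker, hgapp]
        exact hNv0
      have h5 := Submodule.disjoint_def.1 hK'.disjoint (v : ↥W) hvker v.2
      exact Subtype.ext h5
  obtain ⟨t', ht'⟩ := hpar
  obtain ⟨U'', hU''le, hU''d⟩ := elp_exists_sub (W ⊓ subU' k F) (2 * j) (by omega)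
  exact ⟨U'', hU''le.trans inf_le_left, fun w hw => subU'_sing k a b w (hU''le hw).2, by omega⟩

end minus

variable {F : Type*} [Field F] [Fintype F]

theorem s90_two_even_bad {p : ℕ} [Fact p.Prime] [CharP F p] (d m : ℕ) (hd : 4 ≤ d) (hm : 2 ≤ m)
    (hme : Even m) (hmn : m + 2 ≤ 2 * d) (a b : F)
    (hab : ∀ x y : F, x ^ 2 + a * x * y + b * y ^ 2 = 0 → x = 0 ∧ y = 0) (hp2 : p = 2)
    (hall : AllEll (Cfsg.quadFormMinus (d - 1) F a b) 2 m) :
    Even d ∨ m % 4 = 2 := by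
  by_contra hcon
  obtain ⟨hdo, hm4⟩ := not_or.1 hcon
  have hdodd : Odd d := Nat.not_even_iff_odd.1 hdo
  have hk : Even (d - 1) := by
    obtain ⟨c, hc⟩ := hdodd
    exact ⟨c, by omega⟩
  obtain ⟨j, hj⟩ : ∃ j, m = 4 * j := by
    obtain ⟨c, hc⟩ := hme
    exact ⟨m / 4, by omega⟩
  subst hp2
  obtain ⟨x, hx⟩ : ∃ x : GL ((Fin (d - 1) ⊕ Fin (d - 1)) ⊕ Fin 2) F,
      x = emb (sieg (t0 (d - 1) F)) := ⟨_, rfl⟩
  have hxΩ : x ∈ Cfsg.Geo.omegaGL (Cfsg.quadFormMinus (d - 1) F a b) := by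
    rw [hx]
    exact emb_mem_omega (d - 1) a b _
      (sieg_mem_omega (n := Fin (d - 1)) (F := F) (by rw [Fintype.card_fin]; omega)
        (t0 (d - 1) F))
  have hx2 : x ^ 2 = 1 := by
    rw [hx, ← map_pow, Cfsg.Agent.Helper74.ELP.sieg_pow]
    have h0 : 2 • t0 (d - 1) F = 0 := by
      ext i j
      rw [Matrix.smul_apply, Matrix.zero_apply, nsmul_eq_mul]
      have h2 : ((2 : ℕ) : F) = 0 := CharP.cast_eq_zero F 2
      rw [h2, zero_mul]
    rw [h0, sieg_zero, map_one]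
  have hns : ∀ z : F, (x : Matrix ((Fin (d - 1) ⊕ Fin (d - 1)) ⊕ Fin 2)
      ((Fin (d - 1) ⊕ Fin (d - 1)) ⊕ Fin 2) F) ≠ z • 1 := by
    intro z heq
    apply sieg_nonscalar (t0 (d - 1) F) (Cfsg.Agent.Helper74.ELP.t0_ne (d - 1) (by omega)) z
    ext i j
    have h1 := congrFun (congrFun heq (Sum.inl i)) (Sum.inl j)
    have h3 : (x : Matrix ((Fin (d - 1) ⊕ Fin (d - 1)) ⊕ Fin 2)
        ((Fin (d - 1) ⊕ Fin (d - 1)) ⊕ Fin 2) F) (Sum.inl i) (Sum.inl j) =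
        ((sieg (t0 (d - 1) F) : GL (Fin (d - 1) ⊕ Fin (d - 1)) F) :
          Matrix (Fin (d - 1) ⊕ Fin (d - 1)) (Fin (d - 1) ⊕ Fin (d - 1)) F) i j := by
      rw [hx]
      rfl
    rw [← h3, h1]
    simp [Matrix.smul_apply, Matrix.one_apply]
  obtain ⟨W, ⟨hfin, hnd, hnp⟩, hinv⟩ := hall x hxΩ ⟨1, by rw [hx2, one_smul]; rfl⟩ hns
  rw [hx] at hinv
  exact hnp (bad_plus (d - 1) hk a b W hnd hinv j (by rw [hfin, hj]))

end Cfsg.Agent.Helper13.S90
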