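import Mathlib
import Cfsg.Agent.Helper13.RegUnip3
import Cfsg.Agent.Helper13.Dyad

/-!
# Matrix identities for S2281 (`Sp_{2n}`, `n ≥ 3`, three conjugate regular unipotents) (helper13)

`ruUi` is the inverse of the all-ones upper triangular matrix `ruU`; `ruVb γ` is an upper
bidiagonal matrix with trivial first row and column; `ruB x` is the monomial matrix used to
build the conjugating element.
-/

set_option autoImplicit false
set_option linter.unusedSimpArgs false
set_option linter.unusedSectionVars false
set_option linter.unusedVariables false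
set_option linter.unreachableTactic false
set_option linter.unusedTactic false
set_option linter.unnecessarySeqFocus false

namespace Cfsg.Agent.Helper13

open Matrix

section spru3a
variable {F : Type*} [Field F] {N : ℕ}

/-- entries of an elementary matrix, conditions on values. -/
theorem tv_apply_fin (i j : Fin (N + 1)) (t : F) (a b : Fin (N + 1)) :
    Matrix.transvection i j t a b
      = (if a.val = b.val then 1 else 0) + if i.val = a.val ∧ j.val = b.val then t else 0 := by
  rw [Matrix.transvection, Matrix.add_apply, Matrix.one_apply, Matrix.single_apply]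
  simp only [Fin.ext_iff]

theorem single_eq_tv_sub (i j : Fin (N + 1)) (t : F) :
    Matrix.single i j t = Matrix.transvection i j t - 1 := by
  rw [Matrix.transvection, add_sub_cancel_left]

theorem mul_single_entry_fin (i j : Fin (N + 1)) (t : F) (A : Matrix (Fin (N + 1)) (Fin (N + 1)) F)
    (a b : Fin (N + 1)) :
    (A * Matrix.single i j t) a b = if b.val = j.val then t * A a i else 0 := by
  rw [single_eq_tv_sub, mul_sub, mul_one, Matrix.sub_apply, mul_tv_entry_fin]
  split_ifs <;> ring

theorem single_mul_entry_fin (i j : Fin (N + 1)) (t : F) (A : Matrix (Fin (N + 1)) (Fin (N + 1)) F)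
    (a b : Fin (N + 1)) :
    (Matrix.single i j t * A) a b = if a.val = i.val then t * A j b else 0 := by
  rw [single_eq_tv_sub, sub_mul, one_mul, Matrix.sub_apply, tv_mul_entry_fin]
  split_ifs <;> ring

theorem sum_val_eq (f : Fin (N + 1) → F) (m : ℕ) (hm : m ≤ N) :
    ∑ k : Fin (N + 1), (if k.val = m then f k else 0) = f (rix N m) := by
  rw [Finset.sum_eq_single (rix N m)]
  · rw [if_pos (by rw [rix_val]; omega)]
  · intro k _ hk
    rw [if_neg]
    intro e
    apply hk
    apply Fin.ext
    rw [rix_val]
    omega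
  · intro h
    exact absurd (Finset.mem_univ _) h

theorem sum_shift_up (f : Fin (N + 1) → F) (b : Fin (N + 1)) :
    ∑ k : Fin (N + 1), (if k.val = b.val + 1 then f k else 0)
      = if b.val + 1 ≤ N then f (rix N (b.val + 1)) else 0 := by
  by_cases h : b.val + 1 ≤ N
  · rw [if_pos h, sum_val_eq f _ h]
  · rw [if_neg h]
    apply Finset.sum_eq_zero
    intro k _
    have := k.2
    rw [if_neg (by omega)]

theorem sum_shift_down (f : Fin (N + 1) → F) (b : Fin (N + 1)) :
    ∑ k : Fin (N + 1), (if b.val = k.val + 1 then f k else 0)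
      = if 1 ≤ b.val then f (rix N (b.val - 1)) else 0 := by
  have hb := b.2
  by_cases h : 1 ≤ b.val
  · rw [if_pos h, ← sum_val_eq f (b.val - 1) (by omega)]
    apply Finset.sum_congr rfl
    intro k _
    by_cases h2 : b.val = k.val + 1
    · rw [if_pos h2, if_pos (by omega)]
    · rw [if_neg h2, if_neg (by omega)]
  · rw [if_neg h]
    apply Finset.sum_eq_zero
    intro k _
    rw [if_neg (by omega)]

/-- the inverse of `ruU`. -/
def ruUi (N : ℕ) (F : Type*) [Field F] : Matrix (Fin (N + 1)) (Fin (N + 1)) F :=
  Matrix.of fun a b => if a.val = b.val then 1 else if b.val = a.val + 1 then -1 else 0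

theorem ruUi_apply (a b : Fin (N + 1)) :
    ruUi N F a b = if a.val = b.val then 1 else if b.val = a.val + 1 then -1 else 0 := rfl

theorem mul_ruUi_entry (A : Matrix (Fin (N + 1)) (Fin (N + 1)) F) (a b : Fin (N + 1)) :
    (A * ruUi N F) a b = A a b - if 1 ≤ b.val then A a (rix N (b.val - 1)) else 0 := by
  have hb := b.2
  rw [Matrix.mul_apply]
  have e : ∀ k : Fin (N + 1), A a k * ruUi N F k b
      = (if k.val = b.val then A a k else 0) - (if b.val = k.val + 1 then A a k else 0) := by
    intro k
    rw [ruUi_apply]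
    split_ifs <;> first | ring1 | omega
  rw [Finset.sum_congr rfl (fun k _ => e k), Finset.sum_sub_distrib, sum_val_eq _ _ (by omega),
    sum_shift_down, rix_self]

theorem mul_ruUiT_entry (A : Matrix (Fin (N + 1)) (Fin (N + 1)) F) (a b : Fin (N + 1)) :
    (A * (ruUi N F)ᵀ) a b = A a b - if b.val + 1 ≤ N then A a (rix N (b.val + 1)) else 0 := by
  have hb := b.2
  rw [Matrix.mul_apply]
  have e : ∀ k : Fin (N + 1), A a k * (ruUi N F)ᵀ k b
      = (if k.val = b.val then A a k else 0) - (if k.val = b.val + 1 then A a k else 0) := by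
    intro k
    rw [Matrix.transpose_apply, ruUi_apply]
    split_ifs <;> first | ring1 | omega
  rw [Finset.sum_congr rfl (fun k _ => e k), Finset.sum_sub_distrib, sum_val_eq _ _ (by omega),
    sum_shift_up, rix_self]

theorem ruU_mul_ruUi : ruU N F * ruUi N F = 1 := by
  ext a b
  have ha := a.2
  have hb := b.2
  have e := rix_val N (b.val - 1)
  rw [mul_ruUi_entry, Matrix.one_apply]
  simp only [ruU_apply, Fin.ext_iff]
  split_ifs <;> first | ring1 | omega

theorem ruUi_det : (ruUi N F).det = 1 := by
  have h := congrArg Matrix.det (ruU_mul_ruUi (F := F) (N := N))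
  rwa [Matrix.det_mul, ruU_det, one_mul, Matrix.det_one] at h

/-- upper bidiagonal with trivial row and column `0`. -/
def ruVb (N : ℕ) (γ : F) : Matrix (Fin (N + 1)) (Fin (N + 1)) F :=
  Matrix.of fun a b => if a.val = b.val then 1 else
    if 1 ≤ a.val ∧ b.val = a.val + 1 then (if a.val = 1 then -γ else -1) else 0

theorem ruVb_apply (γ : F) (a b : Fin (N + 1)) :
    ruVb N γ a b = if a.val = b.val then 1 else
      if 1 ≤ a.val ∧ b.val = a.val + 1 then (if a.val = 1 then -γ else -1) else 0 := rfl

theorem ruVb_det (γ : F) : (ruVb N γ).det = 1 := by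
  rw [Matrix.det_of_isUpperTriangular]
  · simp [ruVb_apply]
  · intro i j hij
    have : j.val < i.val := hij
    rw [ruVb_apply, if_neg (by omega), if_neg (by omega)]

theorem ruVb_mul_entry (γ : F) (A : Matrix (Fin (N + 1)) (Fin (N + 1)) F) (a b : Fin (N + 1)) :
    (ruVb N γ * A) a b = A a b + if 1 ≤ a.val ∧ a.val + 1 ≤ N then
      (if a.val = 1 then -γ else -1) * A (rix N (a.val + 1)) b else 0 := by
  have ha := a.2
  rw [Matrix.mul_apply]
  have e : ∀ k : Fin (N + 1), ruVb N γ a k * A k b
      = (if k.val = a.val then A k b else 0)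
        + (if k.val = a.val + 1 then (if 1 ≤ a.val then (if a.val = 1 then -γ else -1) * A k b else 0)
            else 0) := by
    intro k
    rw [ruVb_apply]
    split_ifs <;> first | ring1 | omega
  rw [Finset.sum_congr rfl (fun k _ => e k), Finset.sum_add_distrib, sum_val_eq _ _ (by omega),
    sum_shift_up, rix_self]
  congr 1
  split_ifs <;> first | rfl | omega

theorem ruVb_i3 (hN : 2 ≤ N) (γ t : F) :
    ruVb N γ * Matrix.transvection (rix N 0) (rix N N) t
      = Matrix.transvection (rix N 0) (rix N N) t * ruVb N γ := by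
  ext a b
  have ha := a.2
  have hb := b.2
  have e0 : (rix N 0).val = 0 := by rw [rix_val]; omega
  have eN : (rix N N).val = N := by rw [rix_val]; omega
  simp only [tv_mul_entry_fin, mul_tv_entry_fin, ruVb_apply]
  split_ifs <;> first | ring1 | omega

theorem ruVb_row0 (γ : F) (b : Fin (N + 1)) :
    ruVb N γ (rix N 0) b = if b.val = 0 then 1 else 0 := by
  have hb := b.2
  have e0 : (rix N 0).val = 0 := by rw [rix_val]; omega
  rw [ruVb_apply]
  split_ifs <;> first | rfl | omega

theorem ruVb_col {j : ℕ} (hj : 1 ≤ j) (hjN : j + 1 ≤ N) (γ : F) (a : Fin (N + 1)) :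
    ruVb N γ a (rix N (j + 1))
      = if a.val = j + 1 then 1 else if a.val = j then (if j = 1 then -γ else -1) else 0 := by
  have ha := a.2
  have ej' : (rix N (j + 1)).val = j + 1 := by rw [rix_val]; omega
  rw [ruVb_apply]
  split_ifs <;> first | rfl | omega

theorem ruVb_i4 {j : ℕ} (hj : 1 ≤ j) (hjN : j + 1 ≤ N) (γ t : F) :
    ruVb N γ * Matrix.transvection (rix N (j + 1)) (rix N 0) t
      = Matrix.transvection (rix N (j + 1)) (rix N 0) t
        * (Matrix.transvection (rix N j) (rix N 0) ((if j = 1 then -γ else -1) * t)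
          * ruVb N γ) := by
  ext a b
  have ha := a.2
  have hb := b.2
  have e0 : (rix N 0).val = 0 := by rw [rix_val]; omega
  have ej : (rix N j).val = j := by rw [rix_val]; omega
  have ej' : (rix N (j + 1)).val = j + 1 := by rw [rix_val]; omega
  rw [mul_tv_entry_fin, tv_mul_entry_fin, tv_mul_entry_fin, tv_mul_entry_fin, ruVb_col hj hjN,
    ruVb_row0]
  obtain ⟨μ, hμ⟩ : ∃ μ : F, μ = (if j = 1 then -γ else -1) := ⟨_, rfl⟩
  rw [← hμ]
  split_ifs <;> first | ring1 | omega

theorem ruU_i8 (hN : 2 ≤ N) (ρ : F) :
    Matrix.transvection (rix N 0) (rix N 1) (-1 : F) * ruU N F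
        * Matrix.transvection (rix N 1) (rix N 0) ρ
      = Matrix.transvection (rix N 1) (rix N 0) ρ
        * (Matrix.transvection (rix N 0) (rix N 1) (-1 : F) * ruU N F) := by
  ext a b
  have ha := a.2
  have hb := b.2
  have e0 : (rix N 0).val = 0 := by rw [rix_val]; omega
  have e1 : (rix N 1).val = 1 := by rw [rix_val]; omega
  simp only [tv_mul_entry_fin, mul_tv_entry_fin, ruU_apply]
  split_ifs <;> first | ring1 | omega

theorem tv_i9 (hN : 1 ≤ N) (t : F) :
    Matrix.transvection (rix N 1) (rix N 0) (-1 : F) * Matrix.transvection (rix N 0) (rix N 1) 1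
        * Matrix.transvection (rix N 1) (rix N 0) t
      = Matrix.transvection (rix N 0) (rix N 1) (-t)
        * (Matrix.transvection (rix N 1) (rix N 0) (-1 : F)
          * Matrix.transvection (rix N 0) (rix N 1) 1) := by
  have h01 : rix N 0 ≠ rix N 1 := rix_ne (by omega)
  have h10 : rix N 1 ≠ rix N 0 := h01.symm
  unfold Matrix.transvection
  simp only [mul_add, add_mul, mul_one, one_mul, Matrix.single_mul_single_same,
    Matrix.single_mul_single_of_ne _ _ _ _ h01, Matrix.single_mul_single_of_ne _ _ _ _ h10,
    add_zero, zero_add, mul_neg, neg_mul, mul_one, one_mul, neg_neg, ← Matrix.single_neg]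
  abel

/-- the monomial matrix of the conjugating element (support: `(0,0)` and `a + b = N + 1`). -/
def ruB (N : ℕ) (x : F) : Matrix (Fin (N + 1)) (Fin (N + 1)) F :=
  Matrix.of fun a b => if a.val = 0 then (if b.val = 0 then x else 0) else
    if a.val + b.val = N + 1 then (if a.val = 1 then 1 else x) else 0

theorem ruB_apply (x : F) (a b : Fin (N + 1)) :
    ruB N x a b = if a.val = 0 then (if b.val = 0 then x else 0) else
      if a.val + b.val = N + 1 then (if a.val = 1 then 1 else x) else 0 := rfl

theorem ruB_mul_ruBT (hN : 1 ≤ N) (γ η : F) (h : γ * η = 1) :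
    ruB N η * (ruB N γ)ᵀ = 1 := by
  ext a b
  have ha := a.2
  have hb := b.2
  rw [Matrix.mul_apply, Matrix.one_apply]
  by_cases ha0 : a.val = 0
  · have e : ∀ k : Fin (N + 1), ruB N η a k * (ruB N γ)ᵀ k b
        = if k.val = 0 then η * ruB N γ b k else 0 := by
      intro k
      rw [ruB_apply, if_pos ha0]
      split_ifs <;> first | rfl | ring1
    rw [Finset.sum_congr rfl (fun k _ => e k), sum_val_eq _ _ (by omega), ruB_apply]
    have e0 : (rix N 0).val = 0 := by rw [rix_val]; omega
    simp only [Fin.ext_iff]
    split_ifs <;> first | ring1 | omega | linear_combination h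
  · have e : ∀ k : Fin (N + 1), ruB N η a k * (ruB N γ)ᵀ k b
        = if k.val = N + 1 - a.val then (if a.val = 1 then 1 else η) * ruB N γ b k else 0 := by
      intro k
      have hk := k.2
      rw [ruB_apply, if_neg ha0]
      split_ifs <;> first | rfl | ring1 | omega
    rw [Finset.sum_congr rfl (fun k _ => e k), sum_val_eq _ _ (by omega), ruB_apply]
    have e1 : (rix N (N + 1 - a.val)).val = N + 1 - a.val := by rw [rix_val]; omega
    simp only [Fin.ext_iff]
    split_ifs <;> first | ring1 | omega | linear_combination h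

theorem ruB_of_zero (x : F) {a : Fin (N + 1)} (ha : a.val = 0) (b : Fin (N + 1)) :
    ruB N x a b = if b.val = 0 then x else 0 := by
  rw [ruB_apply, if_pos ha]

theorem ruB_of_pos (x : F) {a : Fin (N + 1)} (ha : a.val ≠ 0) (b : Fin (N + 1)) :
    ruB N x a b = if a.val + b.val = N + 1 then (if a.val = 1 then 1 else x) else 0 := by
  rw [ruB_apply, if_neg ha]

theorem ruVb_mul_row0 (γ : F) (A : Matrix (Fin (N + 1)) (Fin (N + 1)) F) (b : Fin (N + 1)) :
    (ruVb N γ * A) (rix N 0) b = A (rix N 0) b := by
  have e0 : (rix N 0).val = 0 := by rw [rix_val]; omega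
  rw [ruVb_mul_entry, if_neg (by omega), add_zero]

theorem ruB_i1 (hN : 2 ≤ N) (γ η : F) (h : γ * η = 1) :
    ruB N η * (ruUi N F)ᵀ
      = Matrix.transvection (rix N N) (rix N 0) (-1 : F) * (ruVb N γ * ruB N η) := by
  ext a b
  have ha := a.2
  have hb := b.2
  have e0 : (rix N 0).val = 0 := by rw [rix_val]; omega
  have eN : (rix N N).val = N := by rw [rix_val]; omega
  have eb := rix_val N (b.val + 1)
  have ea := rix_val N (a.val + 1)
  rw [mul_ruUiT_entry, tv_mul_entry_fin, ruVb_mul_row0, ruVb_mul_entry, ruB_of_zero η e0]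
  by_cases ha0 : a.val = 0
  · rw [ruB_of_zero η ha0, ruB_of_zero η ha0]
    split_ifs <;> first | ring1 | omega
  · have hne : (rix N (a.val + 1)).val ≠ 0 := by omega
    rw [ruB_of_pos η ha0, ruB_of_pos η ha0, ruB_of_pos η hne]
    by_cases ha1 : a.val = 1
    · split_ifs <;> first | ring1 | omega | linear_combination h | linear_combination -h
    · split_ifs <;> first | ring1 | omega | linear_combination h | linear_combination -h

theorem ruB_i3 (hN : 2 ≤ N) (γ η : F) :
    ruB N γ * Matrix.single (rix N N) (rix N N) (1 : F)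
      = Matrix.single (rix N 1) (rix N 1) (1 : F) * ruB N η := by
  ext a b
  have ha := a.2
  have hb := b.2
  have e1 : (rix N 1).val = 1 := by rw [rix_val]; omega
  have eN : (rix N N).val = N := by rw [rix_val]; omega
  rw [mul_single_entry_fin, single_mul_entry_fin]
  simp only [ruB_apply]
  split_ifs <;> first | ring1 | omega

end spru3a

end Cfsg.Agent.Helper13
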