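import Mathlib
import Cfsg.Agent.Helper99.SuTv

/-!
# Block elements of the unitary group `suG hK (2m+1)` (helper13)

The space `K^(2m+1)` with helper99's antidiagonal hermitian form `suH` is written in block form
`E ⊕ E' ⊕ ⟨w⟩`: `bVec a b l` is the vector with `E`-part `a`, `E'`-part `b` (`a b : Fin m → K`) and
`w`-coordinate `l`; `suH (bVec a b l) (bVec a' b' l') = a ⬝ frob b' + b ⬝ frob a' + l * frob l'`.

* `suBlk hK A B C D s ..` is the element of `suG hK (2m+1)` with block matrix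
  `[[A, B, 0], [C, D, 0], [0, 0, s]]` in the block basis (`suAct_suBlk`);
* `suLv hK m : SL_m(K) →* suG hK (2m+1)` is the Siegel Levi embedding `X ↦ diag(X, (X⁻¹)^σᵀ, 1)`.
-/

set_option autoImplicit false
set_option linter.unusedSimpArgs false
set_option linter.unusedSectionVars false
set_option linter.unusedVariables false
set_option linter.unreachableTactic false
set_option linter.unusedTactic false
set_option linter.unnecessarySeqFocus false

namespace Cfsg.Agent.Helper13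

open Matrix
open Cfsg.Agent.Helper5 (frobQ frobQ_apply frobQ_frobQ)
open Cfsg.Agent.Helper99 (suH suG suAct suEl)

/-- block index type: `e_i = inl (inl i)`, `f_i = inl (inr i)`, `w = inr ()`. -/
abbrev BI (m : ℕ) := (Fin m ⊕ Fin m) ⊕ Unit

/-- the dual index: `e_i ↔ f_i`, `w ↔ w`. -/
def bDual {m : ℕ} : BI m → BI m
  | Sum.inl (Sum.inl i) => Sum.inl (Sum.inr i)
  | Sum.inl (Sum.inr i) => Sum.inl (Sum.inl i)
  | Sum.inr u => Sum.inr u

def bIdxFun (m : ℕ) : BI m → Fin (2 * m + 1)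
  | Sum.inl (Sum.inl i) => ⟨i.val, by have := i.2; omega⟩
  | Sum.inl (Sum.inr i) => ⟨2 * m - i.val, by have := i.2; omega⟩
  | Sum.inr _ => ⟨m, by omega⟩

def bIdxInv (m : ℕ) (j : Fin (2 * m + 1)) : BI m :=
  if h : j.val < m then Sum.inl (Sum.inl ⟨j.val, h⟩)
  else if h2 : j.val = m then Sum.inr ()
  else Sum.inl (Sum.inr ⟨2 * m - j.val, by have := j.2; omega⟩)

theorem bIdxInv_lt (m : ℕ) (j : Fin (2 * m + 1)) (h : j.val < m) :
    bIdxInv m j = Sum.inl (Sum.inl ⟨j.val, h⟩) := by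
  unfold bIdxInv
  rw [dif_pos h]

theorem bIdxInv_eq (m : ℕ) (j : Fin (2 * m + 1)) (h : j.val = m) :
    bIdxInv m j = Sum.inr () := by
  unfold bIdxInv
  rw [dif_neg (by omega), dif_pos h]

theorem bIdxInv_gt (m : ℕ) (j : Fin (2 * m + 1)) (h : m < j.val) :
    bIdxInv m j = Sum.inl (Sum.inr ⟨2 * m - j.val, by have := j.2; omega⟩) := by
  unfold bIdxInv
  rw [dif_neg (by omega), dif_neg (by omega)]

/-- `e_i ↦ i`, `w ↦ m`, `f_i ↦ 2m - i`. -/
def bIdx (m : ℕ) : BI m ≃ Fin (2 * m + 1) where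
  toFun := bIdxFun m
  invFun := bIdxInv m
  left_inv := by
    intro a
    rcases a with (i | i) | u
    · exact bIdxInv_lt m (bIdxFun m (Sum.inl (Sum.inl i))) i.2
    · have hi := i.2
      refine (bIdxInv_gt m (bIdxFun m (Sum.inl (Sum.inr i)))
        (by show m < 2 * m - i.val; omega)).trans ?_
      congr 2
      apply Fin.ext
      show 2 * m - (2 * m - i.val) = i.val
      omega
    · exact bIdxInv_eq m (bIdxFun m (Sum.inr u)) rfl
  right_inv := by
    intro j
    have hj := j.2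
    rcases Nat.lt_trichotomy j.val m with h | h | h
    · rw [bIdxInv_lt m j h]
      rfl
    · rw [bIdxInv_eq m j h]
      apply Fin.ext
      show m = j.val
      omega
    · rw [bIdxInv_gt m j h]
      apply Fin.ext
      show 2 * m - (2 * m - j.val) = j.val
      omega

theorem bIdx_rev {m : ℕ} (a : BI m) : Fin.rev (bIdx m a) = bIdx m (bDual a) := by
  rcases a with (i | i) | u
  · have hi := i.2
    apply Fin.ext
    rw [Fin.val_rev]
    show 2 * m + 1 - (i.val + 1) = 2 * m - i.val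
    omega
  · have hi := i.2
    apply Fin.ext
    rw [Fin.val_rev]
    show 2 * m + 1 - (2 * m - i.val + 1) = i.val
    omega
  · apply Fin.ext
    rw [Fin.val_rev]
    show 2 * m + 1 - (m + 1) = m
    omega

theorem bDual_bDual {m : ℕ} (a : BI m) : bDual (bDual a) = a := by
  rcases a with (i | i) | u <;> rfl

section sublk

variable {K : Type*} [Field K] [Fintype K] {q : ℕ} {m : ℕ}

/-- reindexing of vectors from block indices to `Fin (2m+1)`. -/
def bPhi (K : Type*) [Field K] (m : ℕ) : (BI m → K) ≃ₗ[K] (Fin (2 * m + 1) → K) :=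
  LinearEquiv.funCongrLeft K K (bIdx m).symm

theorem bPhi_apply (x : BI m → K) (j : Fin (2 * m + 1)) : bPhi K m x j = x ((bIdx m).symm j) := rfl

theorem bPhi_eq (x : BI m → K) : bPhi K m x = x ∘ (bIdx m).symm := rfl

/-- the vector with `E`-part `a`, `E'`-part `b` and `w`-coordinate `l`. -/
def bVec (a b : Fin m → K) (l : K) : Fin (2 * m + 1) → K :=
  bPhi K m (Sum.elim (Sum.elim a b) (fun _ => l))

theorem bVec_add (a b a' b' : Fin m → K) (l l' : K) :
    bVec a b l + bVec a' b' l' = bVec (a + a') (b + b') (l + l') := by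
  unfold bVec
  rw [← map_add]
  congr 1
  funext x
  rcases x with (i | i) | u <;> rfl

theorem bVec_smul (c : K) (a b : Fin m → K) (l : K) :
    c • bVec a b l = bVec (c • a) (c • b) (c * l) := by
  unfold bVec
  rw [← map_smul]
  congr 1
  funext x
  rcases x with (i | i) | u <;> rfl

theorem bVec_neg (a b : Fin m → K) (l : K) : -bVec a b l = bVec (-a) (-b) (-l) := by
  have h := bVec_smul (-1 : K) a b l
  rw [neg_one_smul, neg_one_smul, neg_one_smul, neg_one_mul] at h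
  exact h

theorem bVec_sub (a b a' b' : Fin m → K) (l l' : K) :
    bVec a b l - bVec a' b' l' = bVec (a - a') (b - b') (l - l') := by
  rw [sub_eq_add_neg, bVec_neg, bVec_add, ← sub_eq_add_neg, ← sub_eq_add_neg, ← sub_eq_add_neg]

theorem bVec_zero : bVec (0 : Fin m → K) 0 0 = 0 := by
  have h := bVec_smul (0 : K) (0 : Fin m → K) 0 0
  rw [zero_smul, zero_smul, zero_mul] at h
  exact h.symm

theorem bVec_inj {a b a' b' : Fin m → K} {l l' : K} (h : bVec a b l = bVec a' b' l') :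
    a = a' ∧ b = b' ∧ l = l' := by
  unfold bVec at h
  have h1 := (bPhi K m).injective h
  refine ⟨?_, ?_, ?_⟩
  · funext i
    exact congrFun h1 (Sum.inl (Sum.inl i))
  · funext i
    exact congrFun h1 (Sum.inl (Sum.inr i))
  · exact congrFun h1 (Sum.inr ())

/-- every vector is a `bVec`. -/
theorem bVec_surj (x : Fin (2 * m + 1) → K) : ∃ (a b : Fin m → K) (l : K), x = bVec a b l := by
  refine ⟨fun i => (bPhi K m).symm x (Sum.inl (Sum.inl i)),
    fun i => (bPhi K m).symm x (Sum.inl (Sum.inr i)), (bPhi K m).symm x (Sum.inr ()), ?_⟩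
  unfold bVec
  have : (Sum.elim (Sum.elim (fun i => (bPhi K m).symm x (Sum.inl (Sum.inl i)))
      (fun i => (bPhi K m).symm x (Sum.inl (Sum.inr i))))
      (fun _ => (bPhi K m).symm x (Sum.inr ())) : BI m → K) = (bPhi K m).symm x := by
    funext y
    rcases y with (i | i) | u <;> rfl
  rw [this, LinearEquiv.apply_symm_apply]

variable (hK : Fintype.card K = q ^ 2)

theorem suH_bPhi (x y : BI m → K) :
    suH hK (2 * m + 1) (bPhi K m x) (bPhi K m y) = ∑ a : BI m, x a * frobQ hK (y (bDual a)) := by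
  unfold suH
  rw [← Equiv.sum_comp (bIdx m)]
  apply Finset.sum_congr rfl
  intro a _
  rw [bPhi_apply, bPhi_apply, bIdx_rev, Equiv.symm_apply_apply, Equiv.symm_apply_apply]

/-- the form in block coordinates. -/
theorem suH_bVec (a b a' b' : Fin m → K) (l l' : K) :
    suH hK (2 * m + 1) (bVec a b l) (bVec a' b' l') =
      (∑ i, a i * frobQ hK (b' i)) + (∑ i, b i * frobQ hK (a' i)) + l * frobQ hK l' := by
  unfold bVec
  rw [suH_bPhi, Fintype.sum_sum_type, Fintype.sum_sum_type]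
  simp only [Sum.elim_inl, Sum.elim_inr, bDual, Finset.univ_unique, Finset.sum_singleton]

/-- block matrix `[[A, B, 0], [C, D, 0], [0, 0, s]]` over `BI m`. -/
def bMat (A B C D : Matrix (Fin m) (Fin m) K) (s : K) : Matrix (BI m) (BI m) K :=
  fromBlocks (fromBlocks A B C D) 0 0 (Matrix.of fun _ _ => s)

theorem bMat_mulVec (A B C D : Matrix (Fin m) (Fin m) K) (s : K) (a b : Fin m → K) (l : K) :
    bMat A B C D s *ᵥ (Sum.elim (Sum.elim a b) (fun _ => l) : BI m → K) =
      Sum.elim (Sum.elim (A *ᵥ a + B *ᵥ b) (C *ᵥ a + D *ᵥ b)) (fun _ => s * l) := by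
  unfold bMat
  rw [Matrix.fromBlocks_mulVec, Matrix.fromBlocks_mulVec]
  simp only [Matrix.zero_mulVec, add_zero, zero_add]
  congr 1
  funext u
  simp [Matrix.mulVec, dotProduct]

theorem bMat_det (A B C D : Matrix (Fin m) (Fin m) K) (s : K) :
    (bMat A B C D s).det = (fromBlocks A B C D).det * s := by
  unfold bMat
  have h1 : (Matrix.of fun (_ _ : Unit) => s).det = s := by
    rw [Matrix.det_unique]
    rfl
  rw [Matrix.det_fromBlocks_zero₂₁, h1]

/-- the block matrix reindexed to `Fin (2m+1)`. -/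
def bMatR (A B C D : Matrix (Fin m) (Fin m) K) (s : K) :
    Matrix (Fin (2 * m + 1)) (Fin (2 * m + 1)) K :=
  (bMat A B C D s).submatrix (bIdx m).symm (bIdx m).symm

theorem bMatR_mulVec (A B C D : Matrix (Fin m) (Fin m) K) (s : K) (a b : Fin m → K) (l : K) :
    bMatR A B C D s *ᵥ bVec a b l = bVec (A *ᵥ a + B *ᵥ b) (C *ᵥ a + D *ᵥ b) (s * l) := by
  unfold bMatR bVec
  rw [Matrix.submatrix_mulVec_equiv, bPhi_eq, bPhi_eq]
  have : ((Sum.elim (Sum.elim a b) (fun _ => l) : BI m → K) ∘ (bIdx m).symm) ∘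
      ((bIdx m).symm).symm = Sum.elim (Sum.elim a b) (fun _ => l) := by
    funext x
    simp
  rw [this, bMat_mulVec]

theorem bMatR_det (A B C D : Matrix (Fin m) (Fin m) K) (s : K) :
    (bMatR A B C D s).det = (fromBlocks A B C D).det * s := by
  unfold bMatR
  rw [Matrix.det_submatrix_equiv_self, bMat_det]

theorem frob_mulVec (M : Matrix (Fin m) (Fin m) K) (v : Fin m → K) :
    (fun i => frobQ hK ((M *ᵥ v) i)) = M.map (frobQ hK) *ᵥ (fun i => frobQ hK (v i)) := by
  funext i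
  simp only [Matrix.mulVec, dotProduct, map_sum, map_mul, Matrix.map_apply]

theorem dot_mulVec_mulVec (A C : Matrix (Fin m) (Fin m) K) (x y : Fin m → K) :
    (A *ᵥ x) ⬝ᵥ (C *ᵥ y) = x ⬝ᵥ ((Aᵀ * C) *ᵥ y) := by
  symm
  calc x ⬝ᵥ ((Aᵀ * C) *ᵥ y) = x ⬝ᵥ (Aᵀ *ᵥ (C *ᵥ y)) := by rw [Matrix.mulVec_mulVec]
    _ = (x ᵥ* Aᵀ) ⬝ᵥ (C *ᵥ y) := Matrix.dotProduct_mulVec _ _ _
    _ = (A *ᵥ x) ⬝ᵥ (C *ᵥ y) := by rw [Matrix.vecMul_transpose]

/-- the conditions making the block matrix `[[A, B, 0], [C, D, 0], [0, 0, s]]` an element of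
`suG hK (2m+1)`. -/
structure BlkU (hK : Fintype.card K = q ^ 2) (A B C D : Matrix (Fin m) (Fin m) K) (s : K) :
    Prop where
  h11 : Cᵀ * A.map (frobQ hK) + Aᵀ * C.map (frobQ hK) = 0
  h12 : Cᵀ * B.map (frobQ hK) + Aᵀ * D.map (frobQ hK) = 1
  h21 : Dᵀ * A.map (frobQ hK) + Bᵀ * C.map (frobQ hK) = 1
  h22 : Dᵀ * B.map (frobQ hK) + Bᵀ * D.map (frobQ hK) = 0
  hs : s * frobQ hK s = 1
  hdet : (fromBlocks A B C D).det * s = 1

theorem suH_bVec_dot (a b a' b' : Fin m → K) (l l' : K) :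
    suH hK (2 * m + 1) (bVec a b l) (bVec a' b' l') =
      a ⬝ᵥ (fun i => frobQ hK (b' i)) + b ⬝ᵥ (fun i => frobQ hK (a' i)) + l * frobQ hK l' :=
  suH_bVec hK a b a' b' l l'

theorem bMatR_pres {A B C D : Matrix (Fin m) (Fin m) K} {s : K} (h : BlkU hK A B C D s)
    (u v : Fin (2 * m + 1) → K) :
    suH hK (2 * m + 1) (bMatR A B C D s *ᵥ u) (bMatR A B C D s *ᵥ v) = suH hK (2 * m + 1) u v := by
  obtain ⟨a, b, l, rfl⟩ := bVec_surj u
  obtain ⟨a', b', l', rfl⟩ := bVec_surj v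
  rw [bMatR_mulVec, bMatR_mulVec, suH_bVec_dot, suH_bVec_dot]
  have e1 : (fun i => frobQ hK ((C *ᵥ a' + D *ᵥ b') i)) =
      C.map (frobQ hK) *ᵥ (fun i => frobQ hK (a' i)) +
        D.map (frobQ hK) *ᵥ (fun i => frobQ hK (b' i)) := by
    rw [← frob_mulVec, ← frob_mulVec]
    funext i
    simp only [Pi.add_apply, map_add]
  have e2 : (fun i => frobQ hK ((A *ᵥ a' + B *ᵥ b') i)) =
      A.map (frobQ hK) *ᵥ (fun i => frobQ hK (a' i)) +
        B.map (frobQ hK) *ᵥ (fun i => frobQ hK (b' i)) := by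
    rw [← frob_mulVec, ← frob_mulVec]
    funext i
    simp only [Pi.add_apply, map_add]
  rw [e1, e2]
  simp only [add_dotProduct, dotProduct_add, dot_mulVec_mulVec]
  have k11 : a ⬝ᵥ ((Aᵀ * C.map (frobQ hK)) *ᵥ fun i => frobQ hK (a' i)) +
      a ⬝ᵥ ((Cᵀ * A.map (frobQ hK)) *ᵥ fun i => frobQ hK (a' i)) = 0 := by
    rw [← dotProduct_add, ← Matrix.add_mulVec, add_comm (Aᵀ * _), h.h11, Matrix.zero_mulVec,
      dotProduct_zero]
  have k12 : a ⬝ᵥ ((Aᵀ * D.map (frobQ hK)) *ᵥ fun i => frobQ hK (b' i)) +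
      a ⬝ᵥ ((Cᵀ * B.map (frobQ hK)) *ᵥ fun i => frobQ hK (b' i)) =
      a ⬝ᵥ fun i => frobQ hK (b' i) := by
    rw [← dotProduct_add, ← Matrix.add_mulVec, add_comm (Aᵀ * _), h.h12, Matrix.one_mulVec]
  have k21 : b ⬝ᵥ ((Bᵀ * C.map (frobQ hK)) *ᵥ fun i => frobQ hK (a' i)) +
      b ⬝ᵥ ((Dᵀ * A.map (frobQ hK)) *ᵥ fun i => frobQ hK (a' i)) =
      b ⬝ᵥ fun i => frobQ hK (a' i) := by
    rw [← dotProduct_add, ← Matrix.add_mulVec, add_comm (Bᵀ * _), h.h21, Matrix.one_mulVec]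
  have k22 : b ⬝ᵥ ((Bᵀ * D.map (frobQ hK)) *ᵥ fun i => frobQ hK (b' i)) +
      b ⬝ᵥ ((Dᵀ * B.map (frobQ hK)) *ᵥ fun i => frobQ hK (b' i)) = 0 := by
    rw [← dotProduct_add, ← Matrix.add_mulVec, add_comm (Bᵀ * _), h.h22, Matrix.zero_mulVec,
      dotProduct_zero]
  have ks : s * l * frobQ hK (s * l') = l * frobQ hK l' := by
    rw [map_mul]
    linear_combination (l * frobQ hK l') * h.hs
  rw [ks]
  linear_combination k11 + k12 + k21 + k22

/-- the element of `suG hK (2m+1)` with block matrix `[[A, B, 0], [C, D, 0], [0, 0, s]]`. -/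
noncomputable def suBlk (hK : Fintype.card K = q ^ 2) (A B C D : Matrix (Fin m) (Fin m) K) (s : K)
    (h : BlkU hK A B C D s) : ↥(suG hK (2 * m + 1)) :=
  ⟨⟨bMatR A B C D s, by rw [bMatR_det]; exact h.hdet⟩, fun u v => bMatR_pres hK h u v⟩

theorem suBlk_val (A B C D : Matrix (Fin m) (Fin m) K) (s : K) (h : BlkU hK A B C D s) :
    ((suBlk hK A B C D s h : ↥(suG hK (2 * m + 1))) : Matrix.SpecialLinearGroup _ K).1 =
      bMatR A B C D s := rfl

/-- the action of a block element. -/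
theorem suAct_suBlk (A B C D : Matrix (Fin m) (Fin m) K) (s : K) (h : BlkU hK A B C D s)
    (a b : Fin m → K) (l : K) :
    suAct (suBlk hK A B C D s h) (bVec a b l) =
      bVec (A *ᵥ a + B *ᵥ b) (C *ᵥ a + D *ᵥ b) (s * l) :=
  bMatR_mulVec A B C D s a b l

theorem frob_map_map (M : Matrix (Fin m) (Fin m) K) :
    (M.map (frobQ hK)).map (frobQ hK) = M := by
  ext i j
  simp only [Matrix.map_apply, frobQ_frobQ]

theorem blkU_levi (X : Matrix.SpecialLinearGroup (Fin m) K) :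
    BlkU hK X.1 0 0 (((X⁻¹ : Matrix.SpecialLinearGroup (Fin m) K).1.map (frobQ hK))ᵀ) 1 where
  h11 := by simp
  h12 := by
    rw [Matrix.transpose_zero, Matrix.zero_mul, zero_add, Matrix.transpose_map, frob_map_map,
      ← Matrix.transpose_mul]
    have : (X⁻¹ : Matrix.SpecialLinearGroup (Fin m) K).1 * X.1 =
        ((X⁻¹ * X : Matrix.SpecialLinearGroup (Fin m) K)).1 := rfl
    rw [this, inv_mul_cancel]
    exact Matrix.transpose_one
  h21 := by
    rw [Matrix.transpose_zero, Matrix.zero_mul, add_zero, Matrix.transpose_transpose,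
      ← Matrix.map_mul]
    have : (X⁻¹ : Matrix.SpecialLinearGroup (Fin m) K).1 * X.1 =
        ((X⁻¹ * X : Matrix.SpecialLinearGroup (Fin m) K)).1 := rfl
    rw [this, inv_mul_cancel]
    exact Matrix.map_one _ (map_zero _) (map_one _)
  h22 := by simp
  hs := by rw [map_one, mul_one]
  hdet := by
    rw [Matrix.det_fromBlocks_zero₂₁, mul_one, Matrix.det_transpose]
    have h1 : ((X⁻¹ : Matrix.SpecialLinearGroup (Fin m) K).1.map (frobQ hK)).det =
        frobQ hK ((X⁻¹ : Matrix.SpecialLinearGroup (Fin m) K).1.det) :=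
      (RingHom.map_det (frobQ hK) _).symm
    rw [h1, X.2, (X⁻¹).2, map_one, mul_one]

/-- The Siegel Levi embedding `X ↦ diag(X, (X⁻¹)^σᵀ, 1)` of `SL_m(K)` into `suG hK (2m+1)`. -/
noncomputable def suLv (hK : Fintype.card K = q ^ 2) (m : ℕ) :
    Matrix.SpecialLinearGroup (Fin m) K →* ↥(suG hK (2 * m + 1)) where
  toFun X := suBlk hK X.1 0 0 (((X⁻¹ : Matrix.SpecialLinearGroup (Fin m) K).1.map (frobQ hK))ᵀ) 1
    (blkU_levi hK X)
  map_one' := by
    apply Cfsg.Agent.Helper99.su_ext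
    intro x
    obtain ⟨a, b, l, rfl⟩ := bVec_surj x
    rw [suAct_suBlk, Cfsg.Agent.Helper99.suAct_one, inv_one]
    have h1 : ((1 : Matrix.SpecialLinearGroup (Fin m) K).1.map (frobQ hK))ᵀ = 1 := by
      show ((1 : Matrix (Fin m) (Fin m) K).map (frobQ hK))ᵀ = 1
      rw [Matrix.map_one _ (map_zero _) (map_one _), Matrix.transpose_one]
    rw [h1]
    show bVec ((1 : Matrix (Fin m) (Fin m) K) *ᵥ a + 0 *ᵥ b) (0 *ᵥ a + 1 *ᵥ b) (1 * l) = _
    simp only [Matrix.one_mulVec, Matrix.zero_mulVec, add_zero, zero_add, one_mul]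
  map_mul' X Y := by
    apply Cfsg.Agent.Helper99.su_ext
    intro x
    obtain ⟨a, b, l, rfl⟩ := bVec_surj x
    rw [Cfsg.Agent.Helper99.suAct_mul, suAct_suBlk, suAct_suBlk, suAct_suBlk]
    have h1 : (((X * Y)⁻¹ : Matrix.SpecialLinearGroup (Fin m) K).1.map (frobQ hK))ᵀ =
        ((X⁻¹ : Matrix.SpecialLinearGroup (Fin m) K).1.map (frobQ hK))ᵀ *
          ((Y⁻¹ : Matrix.SpecialLinearGroup (Fin m) K).1.map (frobQ hK))ᵀ := by
      rw [_root_.mul_inv_rev, ← Matrix.transpose_mul, ← Matrix.map_mul]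
      rfl
    rw [h1]
    show bVec ((X.1 * Y.1) *ᵥ a + 0 *ᵥ b) _ _ = _
    simp only [Matrix.zero_mulVec, add_zero, zero_add, Matrix.mulVec_mulVec, one_mul,
      Matrix.mulVec_zero, Matrix.zero_mul]

/-- the action of a Levi element. -/
theorem suAct_suLv (X : Matrix.SpecialLinearGroup (Fin m) K) (a b : Fin m → K) (l : K) :
    suAct (suLv hK m X) (bVec a b l) =
      bVec (X.1 *ᵥ a) (((X⁻¹ : Matrix.SpecialLinearGroup (Fin m) K).1.map (frobQ hK))ᵀ *ᵥ b) l := by
  show suAct (suBlk hK X.1 0 0 _ 1 (blkU_levi hK X)) (bVec a b l) = _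
  rw [suAct_suBlk]
  simp only [Matrix.zero_mulVec, add_zero, zero_add, one_mul]

theorem suAct_suLv_E (X : Matrix.SpecialLinearGroup (Fin m) K) (a : Fin m → K) (l : K) :
    suAct (suLv hK m X) (bVec a 0 l) = bVec (X.1 *ᵥ a) 0 l := by
  rw [suAct_suLv, Matrix.mulVec_zero]

theorem bVec_apply_lt (a b : Fin m → K) (l : K) (j : Fin (2 * m + 1)) (h : j.val < m) :
    bVec a b l j = a ⟨j.val, h⟩ := by
  show (Sum.elim (Sum.elim a b) (fun _ => l) : BI m → K) (bIdxInv m j) = _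
  rw [bIdxInv_lt m j h]
  rfl

theorem bVec_apply_eq (a b : Fin m → K) (l : K) (j : Fin (2 * m + 1)) (h : j.val = m) :
    bVec a b l j = l := by
  show (Sum.elim (Sum.elim a b) (fun _ => l) : BI m → K) (bIdxInv m j) = _
  rw [bIdxInv_eq m j h]
  rfl

theorem bVec_apply_gt (a b : Fin m → K) (l : K) (j : Fin (2 * m + 1)) (h : m < j.val)
    (h' : 2 * m - j.val < m) : bVec a b l j = b ⟨2 * m - j.val, h'⟩ := by
  show (Sum.elim (Sum.elim a b) (fun _ => l) : BI m → K) (bIdxInv m j) = _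
  rw [bIdxInv_gt m j h]
  rfl

/-- the basis vectors `e_i` (`i < m`). -/
theorem single_eq_bVec_lt (j : Fin (2 * m + 1)) (h : j.val < m) :
    (Pi.single j 1 : Fin (2 * m + 1) → K) = bVec (Pi.single ⟨j.val, h⟩ 1) 0 0 := by
  funext i
  have hi := i.2
  rcases Nat.lt_trichotomy i.val m with h1 | h1 | h1
  · rw [bVec_apply_lt _ _ _ i h1]
    simp only [Pi.single_apply, Fin.ext_iff]
  · rw [bVec_apply_eq _ _ _ i h1, Pi.single_apply, if_neg]
    intro e
    rw [e] at h1
    omega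
  · rw [bVec_apply_gt _ _ _ i h1 (by omega), Pi.single_apply, if_neg]
    · rfl
    · intro e
      rw [e] at h1
      omega

/-- the basis vector `w`. -/
theorem single_eq_bVec_eq (j : Fin (2 * m + 1)) (h : j.val = m) :
    (Pi.single j 1 : Fin (2 * m + 1) → K) = bVec 0 0 1 := by
  funext i
  have hi := i.2
  rcases Nat.lt_trichotomy i.val m with h1 | h1 | h1
  · rw [bVec_apply_lt _ _ _ i h1, Pi.single_apply, if_neg]
    · rfl
    · intro e
      rw [e] at h1
      omega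
  · rw [bVec_apply_eq _ _ _ i h1, Pi.single_apply, if_pos]
    apply Fin.ext
    omega
  · rw [bVec_apply_gt _ _ _ i h1 (by omega), Pi.single_apply, if_neg]
    · rfl
    · intro e
      rw [e] at h1
      omega

/-- the basis vectors `f_i` (index `2m - i`). -/
theorem single_eq_bVec_gt (j : Fin (2 * m + 1)) (h : m < j.val) (h' : 2 * m - j.val < m) :
    (Pi.single j 1 : Fin (2 * m + 1) → K) = bVec 0 (Pi.single ⟨2 * m - j.val, h'⟩ 1) 0 := by
  funext i
  have hi := i.2
  have hj := j.2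
  rcases Nat.lt_trichotomy i.val m with h1 | h1 | h1
  · rw [bVec_apply_lt _ _ _ i h1, Pi.single_apply, if_neg]
    · rfl
    · intro e
      rw [e] at h1
      omega
  · rw [bVec_apply_eq _ _ _ i h1, Pi.single_apply, if_neg]
    intro e
    rw [e] at h1
    omega
  · rw [bVec_apply_gt _ _ _ i h1 (by omega)]
    simp only [Pi.single_apply, Fin.ext_iff]
    by_cases e : i.val = j.val
    · rw [if_pos e, if_pos (by omega)]
    · rw [if_neg e, if_neg (by omega)]

theorem blk_gram (A B C D : Matrix (Fin m) (Fin m) K) :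
    (fromBlocks A B C D)ᵀ * fromBlocks (0 : Matrix (Fin m) (Fin m) K) (1 : Matrix (Fin m) (Fin m) K) (1 : Matrix (Fin m) (Fin m) K) (0 : Matrix (Fin m) (Fin m) K) *
        (fromBlocks A B C D).map (frobQ hK) =
      fromBlocks (Cᵀ * A.map (frobQ hK) + Aᵀ * C.map (frobQ hK))
        (Cᵀ * B.map (frobQ hK) + Aᵀ * D.map (frobQ hK))
        (Dᵀ * A.map (frobQ hK) + Bᵀ * C.map (frobQ hK))
        (Dᵀ * B.map (frobQ hK) + Bᵀ * D.map (frobQ hK)) := by
  rw [Matrix.fromBlocks_transpose, Matrix.fromBlocks_map, Matrix.fromBlocks_multiply,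
    Matrix.fromBlocks_multiply]
  simp only [Matrix.mul_zero, Matrix.mul_one, zero_add, add_zero]

/-- the norm of the determinant of a unitary block matrix is `1`. -/
theorem blk_det_norm {A B C D : Matrix (Fin m) (Fin m) K}
    (h11 : Cᵀ * A.map (frobQ hK) + Aᵀ * C.map (frobQ hK) = 0)
    (h12 : Cᵀ * B.map (frobQ hK) + Aᵀ * D.map (frobQ hK) = 1)
    (h21 : Dᵀ * A.map (frobQ hK) + Bᵀ * C.map (frobQ hK) = 1)
    (h22 : Dᵀ * B.map (frobQ hK) + Bᵀ * D.map (frobQ hK) = 0) :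
    (fromBlocks A B C D).det * frobQ hK (fromBlocks A B C D).det = 1 := by
  have h := blk_gram hK A B C D
  rw [h11, h12, h21, h22] at h
  have hJ : (fromBlocks (0 : Matrix (Fin m) (Fin m) K) (1 : Matrix (Fin m) (Fin m) K) (1 : Matrix (Fin m) (Fin m) K) (0 : Matrix (Fin m) (Fin m) K)) *
      (fromBlocks (0 : Matrix (Fin m) (Fin m) K) (1 : Matrix (Fin m) (Fin m) K) (1 : Matrix (Fin m) (Fin m) K) (0 : Matrix (Fin m) (Fin m) K)) = 1 := by
    rw [Matrix.fromBlocks_multiply]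
    simp only [Matrix.mul_zero, Matrix.mul_one, zero_add, add_zero, Matrix.zero_mul]
    exact Matrix.fromBlocks_one
  have hJ2 := congrArg Matrix.det hJ
  rw [Matrix.det_mul, Matrix.det_one] at hJ2
  have hJ0 : (fromBlocks (0 : Matrix (Fin m) (Fin m) K) (1 : Matrix (Fin m) (Fin m) K) (1 : Matrix (Fin m) (Fin m) K) (0 : Matrix (Fin m) (Fin m) K)).det ≠ 0 := by
    intro e
    rw [e, mul_zero] at hJ2
    exact zero_ne_one hJ2
  have h2 := congrArg Matrix.det h
  rw [Matrix.det_mul, Matrix.det_mul, Matrix.det_transpose] at h2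
  have h3 : ((fromBlocks A B C D).map (frobQ hK)).det = frobQ hK (fromBlocks A B C D).det :=
    (RingHom.map_det (frobQ hK) _).symm
  rw [h3] at h2
  apply mul_right_cancel₀ hJ0
  linear_combination h2

/-- a unitary block matrix gives an element of `suG` after correcting the determinant on `w`. -/
theorem blkU_of_unitary {A B C D : Matrix (Fin m) (Fin m) K}
    (h11 : Cᵀ * A.map (frobQ hK) + Aᵀ * C.map (frobQ hK) = 0)
    (h12 : Cᵀ * B.map (frobQ hK) + Aᵀ * D.map (frobQ hK) = 1)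
    (h21 : Dᵀ * A.map (frobQ hK) + Bᵀ * C.map (frobQ hK) = 1)
    (h22 : Dᵀ * B.map (frobQ hK) + Bᵀ * D.map (frobQ hK) = 0) :
    BlkU hK A B C D (frobQ hK (fromBlocks A B C D).det) where
  h11 := h11
  h12 := h12
  h21 := h21
  h22 := h22
  hs := by
    rw [frobQ_frobQ, mul_comm]
    exact blk_det_norm hK h11 h12 h21 h22
  hdet := blk_det_norm hK h11 h12 h21 h22

end sublk

end Cfsg.Agent.Helper13
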