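import Mathlib
import Cfsg.Prelude.Def_GeometricClasses
import Cfsg.Prelude.Def_Classical
import Cfsg.Agent.Helper58.TSDefs
import Cfsg.Agent.Helper43.OTDefs
import Cfsg.Agent.Helper34.HTHFIX
import Cfsg.Agent.Helper33.HTHSUM
import Cfsg.Agent.Helper10.HTHMAX
import Cfsg.Agent.Helper35.OTANISO
import Cfsg.Agent.Helper51.TIORD
import Cfsg.Agent.Helper33.OType
import Cfsg.Agent.Helper13.TIChar
import Cfsg.Agent.Helper98.OPar
import Cfsg.Agent.Helper93.TSOGSING
import Cfsg.Agent.Helper98.TSOGCHAIN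
import Cfsg.Agent.Helper33.TSEGSINGCNT
import Cfsg.Agent.Helper46.TSEGWITT
import Cfsg.Agent.Helper13.TSEGBRIDGE
import Cfsg.Agent.Helper13.TSEGSINGFIX
import Cfsg.Agent.Helper13.TSEGTYPE

set_option autoImplicit false

/-!
# Stage EG of CALL TS (rows S5973 + S5987), helper13: `ts_even_good`.

`i = ord_r(q)` even, `x` an isometry with `x ^ r = 1`: `V = C ⊥ D` (`C` the fixed space,
`D = range (x - 1)`), `W₀ ≤ D` a maximal invariant totally singular subspace (dimension `i * S`),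
the rest `U` of dimension `i * o < r`; `D` is of plus type iff `A = 2 S + o` is even, so `C` has
type defect `(δ + A) % 2`, and contains totally singular subspaces up to its Witt index.
-/

namespace Cfsg.Agent.Helper13.TS5973

open Module Cfsg Cfsg.Geo Cfsg.Agent.Helper58.TS
open scoped MatrixGroups
open Polynomial Cfsg.Agent.Helper90.HT Cfsg.Agent.Helper43.OT
open Cfsg.Agent.Helper13.TSEG (eg_bridge eg_sing_congr eg_type_even)
open Cfsg.Agent.Helper33.TSEG (eg_sing_count)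
open Cfsg.Agent.Helper46.TSEG (eg_witt)

variable {ι : Type} [Fintype ι] [DecidableEq ι] {F : Type*} [Field F] [Fintype F]

/-- EVEN-GOOD (stage EG of CALL TS), statement verbatim from `tools/calls/TSSkel.lean.txt`. -/
theorem ts_even_good (Q : (ι → F) → F) (hQ : IsNondegenerateQuadraticForm Q) (d δ : ℕ)
    (hcard : Fintype.card ι = 2 * d) (hδ : TypeDefect Q δ) (p : ℕ) [Fact p.Prime] [CharP F p]
    (q : ℕ) (hq : Fintype.card F = q) (r : ℕ) [Fact r.Prime] (hr2 : 2 < r) (hrp : r ≠ p) (i : ℕ)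
    (hi : i = orderOf ((q : ℕ) : ZMod r)) (heven : Even i) (x : GL ι F)
    (hx : x ∈ Cfsg.isometryGroup F Q) (hxr : x ^ r = 1) :
    ∃ A o, o ≤ (r - 1) / i ∧ o ≤ A ∧ Even (A - o) ∧ i * A + 2 * ((δ + A) % 2) ≤ 2 * d ∧
      ∀ s w, 2 * s + o ≤ A → 2 * w + i * A + 2 * ((δ + A) % 2) ≤ 2 * d →
        InvTS Q (x : Matrix ι ι F) (i * s + w) := by
  subst hq
  obtain ⟨T, hTdef⟩ : ∃ T : Module.End F (ι → F), T = Matrix.toLin' (x : Matrix ι ι F) :=
    ⟨_, rfl⟩
  have hTQ : ∀ v, Q (T v) = Q v := by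
    intro v
    have h1 := hx v v
    rw [hTdef, Matrix.toLin'_apply]
    exact h1
  have hTr : T ^ r = 1 := by
    rw [hTdef, ← Matrix.toLin'_pow, ← Units.val_pow_eq_pow_val, hxr, Units.val_one,
      Matrix.toLin'_one]
    rfl
  obtain ⟨hrF, hrq⟩ := Cfsg.Agent.Helper13.TIsp.ti_char_facts (F := F) p r hrp
  obtain ⟨Qf, hQf⟩ : ∃ Qf : QuadraticForm F (ι → F), Qf = Cfsg.Agent.Helper98.op_qf Q hQ :=
    ⟨_, rfl⟩
  have hQfc : ∀ v, Qf v = Q v := fun v => by rw [hQf]; rfl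
  have hphc : ∀ u v, ph Qf u v = QuadraticMap.polar Q u v := fun u v => by rw [hQf]; rfl
  have hh : IsHerm (RingHom.id F) (ph Qf) := isHerm_ph Qf
  have hT : HPres (ph Qf) T := hpres_ph Qf T (fun v => by rw [hQfc, hQfc]; exact hTQ v)
  have hnd : ∀ v, (∀ w, ph Qf v w = 0) → v = 0 := by
    intro v hv
    by_contra hne
    obtain ⟨y, hy⟩ := (hQ.nondegenerate v hne).2
    exact hy (by rw [← hphc]; exact hv y)
  obtain ⟨hDT, hcompl, horth1, horth2, hCnd, hDnd⟩ :=
    Cfsg.Agent.Helper34.HT5953.ht_fix (RingHom.id F) (ph Qf) hh hnd T hT r hrF hTr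
  obtain ⟨W0, U, hW0D, hUD, hW0ti, hW0T, hUT, hdimD, hUmax⟩ :=
    Cfsg.Agent.Helper10.HT5953.ht_max (RingHom.id F) (ph Qf) hh T hT r hrF hTr
      (LinearMap.range (T - 1)) hDT hDnd
  have hDk : LinearMap.range (T - 1) ⊓ LinearMap.ker (T - 1) = ⊥ := by
    rw [inf_comm]; exact hcompl.inf_eq_bot
  have hW0k : W0 ⊓ LinearMap.ker (T - 1) = ⊥ :=
    eq_bot_iff.2 (le_trans (inf_le_inf_right _ hW0D) hDk.le)
  have hUk : U ⊓ LinearMap.ker (T - 1) = ⊥ :=
    eq_bot_iff.2 (le_trans (inf_le_inf_right _ hUD) hDk.le)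
  have hi0 : 0 < i := by
    rw [hi]; exact (Cfsg.Agent.Helper51.TI5955.ord_pos r (Fintype.card F) hrq).1
  have hi' : i = orderOf ((Fintype.card F : ℕ) : ZMod r) := hi
  obtain ⟨A, hA, -⟩ := Cfsg.Agent.Helper98.TSOG.og_chain T r hrF hTr i hi' _ hDT hDk
  obtain ⟨S, hS, hchain⟩ := Cfsg.Agent.Helper98.TSOG.og_chain T r hrF hTr i hi' W0 hW0T hW0k
  obtain ⟨o, ho, -⟩ := Cfsg.Agent.Helper98.TSOG.og_chain T r hrF hTr i hi' U hUT hUk
  have hAS : A = 2 * S + o := by
    have h1 : i * A = i * (2 * S + o) := by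
      rw [← hA, hdimD, hS, ho]; ring
    exact Nat.eq_of_mul_eq_mul_left hi0 h1
  have hUr : finrank F U < r := by
    by_contra hge
    push Not at hge
    obtain ⟨W', hW'U, hW'ti, hW'T, hW'0⟩ :=
      Cfsg.Agent.Helper35.OT5972.ot_aniso (ph Qf) hh T hT r hr2 hrF hTr U hUT hUk hge
    exact hW'0 (hUmax W' hW'U hW'ti hW'T)
  have ho1 : o ≤ (r - 1) / i := by
    rw [Nat.le_div_iff_mul_le hi0]
    have h1 : i * o < r := by rw [← ho]; exact hUr
    have h2 : o * i = i * o := Nat.mul_comm _ _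
    omega
  -- types
  have hbr : ∀ W : Submodule F (ι → F), HNondegOn (ph Qf) W ↔
      IsNondegenerateOn (QuadraticMap.polar Q) W := fun W => by
    rw [hQf]; exact eg_bridge Q hQ W
  have hCnd' : IsNondegenerateOn (QuadraticMap.polar Q) (LinearMap.ker (T - 1)) :=
    (hbr _).1 hCnd
  have hDnd' : IsNondegenerateOn (QuadraticMap.polar Q) (LinearMap.range (T - 1)) :=
    (hbr _).1 hDnd
  have horth : AreOrthogonalFor (QuadraticMap.polar Q) (LinearMap.ker (T - 1))
      (LinearMap.range (T - 1)) := fun u hu v hv => by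
    rw [← hphc]; exact horth1 u hu v hv
  have hdimCD : finrank F (LinearMap.ker (T - 1)) + finrank F (LinearMap.range (T - 1)) =
      2 * d := by
    have h1 := Submodule.finrank_add_eq_of_isCompl hcompl
    rw [Module.finrank_fintype_fun_eq_card, hcard] at h1
    exact h1
  have hDeven : Even (finrank F (LinearMap.range (T - 1))) := by
    rw [hA]; exact heven.mul_right A
  have hCeven : Even (finrank F (LinearMap.ker (T - 1))) := by
    obtain ⟨k, hk⟩ := hDeven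
    exact ⟨d - k, by omega⟩
  have htm := Cfsg.Agent.Helper33.o_type_mul Q hQ _ _ hCnd' hDnd' horth hCeven hDeven
  rw [hcompl.sup_eq_top] at htm
  have hQ0 : Q 0 = 0 := Cfsg.Agent.Helper33.o_quad_zero Q hQ
  have htD : IsPlusTypeOn Q (LinearMap.range (T - 1)) ↔ Even A := by
    have h1 := eg_type_even Q hQ r hr2 hrq (hi ▸ heven) (LinearMap.range (T - 1))
      (hi ▸ ⟨A, hA⟩) (eg_sing_congr Q hQ0 T hTQ r hTr _ hDT hDk)
      (fun l hl hdim => eg_sing_count Q hQ _ hDnd' l hl hdim)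
    rw [← hi, hA, Nat.mul_div_cancel_left A hi0] at h1
    exact h1
  have htC : IsPlusTypeOn Q (LinearMap.ker (T - 1)) ↔ (δ + A) % 2 = 0 := by
    rcases hδ with ⟨rfl, hpl⟩ | ⟨rfl, hmi⟩
    · have h1 := htm.1 hpl
      rw [h1, htD, Nat.even_iff]; omega
    · have h1 : ¬ (IsPlusTypeOn Q (LinearMap.ker (T - 1)) ↔
          IsPlusTypeOn Q (LinearMap.range (T - 1))) := fun h => hmi (htm.2 h)
      rw [htD, Nat.even_iff] at h1
      constructor
      · intro hC
        by_contra hne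
        exact h1 ⟨fun _ => by omega, fun _ => hC⟩
      · intro hA2
        by_contra hC
        exact h1 ⟨fun h => absurd h hC, fun hev => by omega⟩
  obtain ⟨c, hc⟩ : ∃ c, finrank F (LinearMap.ker (T - 1)) = 2 * c := by
    obtain ⟨c, hc⟩ := hCeven
    exact ⟨c, by omega⟩
  have hwitt := eg_witt Q hQ _ hCnd' c hc
  have hadm : i * A + 2 * ((δ + A) % 2) ≤ 2 * d := by
    by_cases hpar : (δ + A) % 2 = 0
    · rw [hpar]; omega
    · have hCnp : ¬ IsPlusTypeOn Q (LinearMap.ker (T - 1)) := fun h => hpar (htC.1 h)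
      have hc1 : 1 ≤ c := by
        by_contra h0
        have hCbot : LinearMap.ker (T - 1) = ⊥ := Submodule.finrank_eq_zero.1 (by omega)
        apply hCnp
        rw [hCbot]
        exact Cfsg.Agent.Helper33.o_plus_bot Q hQ
      omega
  refine ⟨A, o, ho1, by omega, ⟨S, by omega⟩, hadm, ?_⟩
  intro s w hs hw
  have hsS : s ≤ S := by omega
  obtain ⟨Ws, hWsW0, hWsT, hWsdim⟩ := hchain s hsS
  obtain ⟨Ww, hWwC, hWwdim, hWwts⟩ : ∃ Ww : Submodule F (ι → F),
      Ww ≤ LinearMap.ker (T - 1) ∧ finrank F Ww = w ∧ ∀ x ∈ Ww, Q x = 0 := by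
    by_cases hpar : (δ + A) % 2 = 0
    · exact hwitt.1 (htC.2 hpar) w (by omega)
    · exact hwitt.2 w (by omega)
  have hWsti : HTI (ph Qf) Ws := fun u hu v hv => hW0ti u (hWsW0 hu) v (hWsW0 hv)
  have hWsts : ∀ x ∈ Ws, Q x = 0 := by
    intro x hx
    rw [← hQfc]
    exact Cfsg.Agent.Helper93.TSOG.og_sing Qf T (fun v => by rw [hQfc, hQfc]; exact hTQ v) Ws
      hWsti hWsT (eq_bot_iff.2 (le_trans (inf_le_inf_right _ hWsW0) hW0k.le)) x hx
  have hWwti : HTI (ph Qf) Ww := by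
    intro u hu v hv
    rw [hphc]
    unfold QuadraticMap.polar
    rw [hWwts _ (Ww.add_mem hu hv), hWwts u hu, hWwts v hv]
    simp
  obtain ⟨hti, hdim⟩ := Cfsg.Agent.Helper33.HT5953.ht_sum (RingHom.id F) (ph Qf) hh Ws Ww
    (LinearMap.range (T - 1)) (LinearMap.ker (T - 1)) (hWsW0.trans hW0D) hWwC hDk
    (fun u hu v hv => horth2 u hu v hv) hWsti hWwti
  refine ⟨Ws ⊔ Ww, by rw [hdim, hWsdim, hWwdim], ?_, ?_⟩
  · intro z hz
    obtain ⟨u, hu, v, hv, rfl⟩ := Submodule.mem_sup.1 hz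
    have h1 : Q (u + v) = Q u + Q v + QuadraticMap.polar Q u v := by
      unfold QuadraticMap.polar; ring
    have h2 := hti u (Submodule.mem_sup_left hu) v (Submodule.mem_sup_right hv)
    rw [hphc] at h2
    rw [h1, hWsts u hu, hWwts v hv, h2]; simp
  · rw [← hTdef, Submodule.map_sup]
    refine sup_le (hWsT.trans le_sup_left) ?_
    rintro _ ⟨v, hv, rfl⟩
    have hvC := LinearMap.mem_ker.1 (hWwC hv)
    have h1 : T v = v := by
      rw [LinearMap.sub_apply, Module.End.one_apply, sub_eq_zero] at hvC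
      exact hvC
    show T v ∈ Ws ⊔ Ww
    rw [h1]; exact Submodule.mem_sup_right hv

end Cfsg.Agent.Helper13.TS5973
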