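import Mathlib

set_option autoImplicit false

namespace Cfsg.Agent.Helper13

section zass

/-- a free action of a finite group on a finite set: the order of the group divides the size
of the set. -/
theorem card_dvd_of_free {H Y : Type*} [Group H] [Finite H] [MulAction H Y] [Finite Y]
    (hfree : ∀ (h : H) (y : Y), h • y = y → h = 1) : Nat.card H ∣ Nat.card Y := by
  classical
  letI := Fintype.ofFinite H
  letI := Fintype.ofFinite Y
  have hB := MulAction.sum_card_fixedBy_eq_card_orbits_mul_card_group H Y
  have h1 : ∑ g : H, Fintype.card (MulAction.fixedBy Y g) = Fintype.card Y := by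
    rw [Finset.sum_eq_single (1 : H)]
    · apply Fintype.card_congr
      exact (Equiv.subtypeUnivEquiv (fun y => by simp [MulAction.mem_fixedBy]))
    · intro g _ hg
      rw [Fintype.card_eq_zero_iff]
      exact ⟨fun ⟨y, hy⟩ => hg (hfree g y hy)⟩
    · intro h; exact absurd (Finset.mem_univ _) h
  rw [Nat.card_eq_fintype_card, Nat.card_eq_fintype_card, ← h1, hB]
  exact dvd_mul_left _ _

/-- an invariant subset for an action which is free away from a fixed point `x0`, when the
group has order at least half of the number of the remaining points. -/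
theorem inv_set_card {H X : Type*} [Group H] [Finite H] [MulAction H X] [Fintype X]
    [DecidableEq X] (x0 : X) (hfix : ∀ h : H, h • x0 = x0)
    (hfree : ∀ (h : H) (x : X), x ≠ x0 → h • x = x → h = 1)
    (hn : Fintype.card X - 1 ≤ 2 * Nat.card H)
    (T : Finset X) (hT : ∀ (h : H) (x : X), x ∈ T → h • x ∈ T) (h0 : x0 ∈ T)
    (hne : ∃ x ∈ T, x ≠ x0) :
    T = Finset.univ ∨ (T.card = 1 + Nat.card H ∧ Fintype.card X = 1 + 2 * Nat.card H) := by
  have hne0 : ∀ (h : H) (x : X), x ≠ x0 → h • x ≠ x0 := by
    intro h x hx hh
    apply hx
    have := congrArg (fun y => h⁻¹ • y) hh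
    simp only [inv_smul_smul] at this
    rw [this, hfix]
  let p1 : SubMulAction H X :=
    { carrier := ((T.erase x0 : Finset X) : Set X)
      smul_mem' := by
        intro h x hx
        simp only [Finset.coe_erase, Set.mem_sdiff, Finset.mem_coe, Set.mem_singleton_iff] at hx ⊢
        exact ⟨hT h x hx.1, hne0 h x hx.2⟩ }
  let p2 : SubMulAction H X :=
    { carrier := ((Tᶜ : Finset X) : Set X)
      smul_mem' := by
        intro h x hx
        simp only [Finset.coe_compl, Set.mem_compl_iff, Finset.mem_coe] at hx ⊢
        intro hh
        apply hx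
        have := hT h⁻¹ _ hh
        rwa [inv_smul_smul] at this }
  have hd1 : Nat.card H ∣ (T.erase x0).card := by
    have hfree1 : ∀ (h : H) (y : p1), h • y = y → h = 1 := by
      intro h y hy
      have hy0 : (y : X) ≠ x0 := by
        have := y.2
        change (y : X) ∈ ((T.erase x0 : Finset X) : Set X) at this
        simp only [Finset.coe_erase, Set.mem_sdiff, Finset.mem_coe, Set.mem_singleton_iff] at this
        exact this.2
      exact hfree h y hy0 (congrArg Subtype.val hy)
    have := card_dvd_of_free hfree1
    have hc : Nat.card p1 = (T.erase x0).card := by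
      change Nat.card ((T.erase x0 : Finset X) : Set X) = _
      rw [Nat.card_coe_set_eq, Set.ncard_coe_finset]
    rwa [hc] at this
  have hd2 : Nat.card H ∣ (Tᶜ).card := by
    have hfree2 : ∀ (h : H) (y : p2), h • y = y → h = 1 := by
      intro h y hy
      have hy0 : (y : X) ≠ x0 := by
        have := y.2
        change (y : X) ∈ ((Tᶜ : Finset X) : Set X) at this
        simp only [Finset.coe_compl, Set.mem_compl_iff, Finset.mem_coe] at this
        intro h'
        exact this (h' ▸ h0)
      exact hfree h y hy0 (congrArg Subtype.val hy)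
    have := card_dvd_of_free hfree2
    have hc : Nat.card p2 = (Tᶜ).card := by
      change Nat.card ((Tᶜ : Finset X) : Set X) = _
      rw [Nat.card_coe_set_eq, Set.ncard_coe_finset]
    rwa [hc] at this
  have hpos : 0 < Nat.card H := Nat.card_pos
  have he : (T.erase x0).card = T.card - 1 := Finset.card_erase_of_mem h0
  have hc : T.card + (Tᶜ).card = Fintype.card X := Finset.card_add_card_compl T
  have hT2 : 2 ≤ T.card := by
    obtain ⟨x, hx, hx0⟩ := hne
    have : ({x0, x} : Finset X) ⊆ T := by
      intro y hy
      simp only [Finset.mem_insert, Finset.mem_singleton] at hy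
      rcases hy with rfl | rfl
      · exact h0
      · exact hx
    have h2 := Finset.card_le_card this
    rwa [Finset.card_pair (Ne.symm hx0)] at h2
  by_cases hcomp : (Tᶜ).card = 0
  · left
    rw [Finset.card_eq_zero, Finset.compl_eq_empty_iff] at hcomp
    exact hcomp
  · right
    have h1 : Nat.card H ≤ (Tᶜ).card := Nat.le_of_dvd (Nat.pos_of_ne_zero hcomp) hd2
    have h2 : Nat.card H ≤ T.card - 1 := by
      rw [← he]
      exact Nat.le_of_dvd (by rw [he]; omega) hd1
    omega

open Equiv Equiv.Perm in
/-- McKay's count: the number of solutions of `g ^ p = 1` in a finite group of order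
divisible by the prime `p` is divisible by `p`. -/
theorem card_pow_eq_one_dvd {G : Type*} [Group G] [Fintype G] [DecidableEq G] (p : ℕ)
    [hp : Fact p.Prime] (hdvd : p ∣ Fintype.card G) :
    p ∣ Fintype.card {g : G // g ^ p = 1} := by
  have hp' : p - 1 ≠ 0 := mt tsub_eq_zero_iff_le.mp (not_le_of_gt hp.out.one_lt)
  have Scard : p ∣ Fintype.card (vectorsProdEqOne G p) := by
    rw [VectorsProdEqOne.card G p]
    exact hdvd.trans (dvd_pow (dvd_refl _) hp')
  let f : Function.End (vectorsProdEqOne G p) := fun v => VectorsProdEqOne.rotate v 1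
  have hfk : ∀ k v, (f ^ k) v = VectorsProdEqOne.rotate v k := by
    intro k
    induction k with
    | zero => intro v; rw [pow_zero, VectorsProdEqOne.rotate_zero]; rfl
    | succ k ih =>
      intro v
      rw [pow_succ]
      show (f ^ k) (f v) = _
      rw [ih]
      show VectorsProdEqOne.rotate (VectorsProdEqOne.rotate v 1) k = _
      rw [VectorsProdEqOne.rotate_rotate, add_comm]
  have hf : f ^ p ^ 1 = 1 := by
    funext v
    rw [pow_one, hfk, VectorsProdEqOne.rotate_length]; rfl
  have hmod := Equiv.Perm.card_fixedPoints_modEq (p := p) (n := 1) hf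
  have hcard : Fintype.card (Function.fixedPoints f) = Fintype.card {g : G // g ^ p = 1} := by
    apply Fintype.card_congr
    symm
    refine Equiv.ofBijective (fun g => ⟨⟨List.Vector.replicate p g.1,
      (List.prod_replicate p g.1).trans g.2⟩,
      Subtype.ext (Subtype.ext (List.rotate_replicate g.1 p 1))⟩) ⟨?_, ?_⟩
    · intro g g' h
      have h1 : (List.replicate p g.1) = List.replicate p g'.1 :=
        congrArg (fun v : Function.fixedPoints f => v.1.1.1) h
      apply Subtype.ext
      have h2 : g.1 ∈ List.replicate p g'.1 := by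
        rw [← h1]
        exact List.mem_replicate.mpr ⟨hp.out.pos.ne', rfl⟩
      exact (List.mem_replicate.mp h2).2
    · rintro ⟨v, hv⟩
      have hv' : v.1.1.rotate 1 = v.1.1 := Subtype.ext_iff.mp (Subtype.ext_iff.mp hv)
      obtain ⟨g, hg⟩ := List.rotate_one_eq_self_iff_eq_replicate.mp hv'
      have hlen : v.1.1.length = p := v.1.2
      refine ⟨⟨g, ?_⟩, ?_⟩
      · rw [← List.prod_replicate, ← hlen, ← hg]; exact v.2
      · apply Subtype.ext
        apply Subtype.ext
        apply Subtype.ext
        show List.replicate p g = v.1.1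
        rw [hg, hlen]
  rw [← hcard]
  exact (Nat.modEq_zero_iff_dvd.mp (hmod.symm.trans (Nat.modEq_zero_iff_dvd.mpr Scard)))

end zass

end Cfsg.Agent.Helper13
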